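import Cfsg.Agent.Lib.MultiplierRu.Checks
import Cfsg.Agent.Lib.RuStandard.Data

/-!
# The kernel checks on a Sylow 2-subgroup of the Rudvalis group

* `eqP` : equality of words in the polycyclic generators on five lines
* `sqOK` : every element whose square is `1` or the central involution is listed
* `cenOK` : only two elements commute with the generators
* `treeOK` : the certificate trees
-/

set_option autoImplicit false
set_option maxRecDepth 50000
set_option Elab.async false

namespace Cfsg.Agent.RuStandard

open Cfsg.Agent.StabCert Cfsg.Agent.RuPerm Cfsg.Agent.Multiplier Cfsg.Agent.MultiplierRu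

/-- The letters of a code. -/
def lts (e : ℕ) : List ℕ := TailCert.letters 14 e

/-- Equality of words in the polycyclic generators on five lines. -/
def eqP (u v : List ℕ) : Bool := detPts.all fun β => Nat.beq (ev 12 tab u β) (ev 12 tab v β)

/-- The table of a polycyclic generator agrees with its word. -/
def tabOK (i : ℕ) : Bool :=
  (List.range 4060).all fun x => Nat.beq (look 12 (tab.getD i 0) x) (ev 12 perm (pcWords.getD i []) x)

/-- A square `1` or `g₁₃` belongs to a listed element. -/
def sqOK (lo : ℕ) : Bool :=
  (List.range 2048).all fun k =>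
    let e := lo + k
    Nat.beq e 0 || maskInv.testBit e || maskRoot.testBit e ||
      (!eqP (lts e ++ lts e) [] && !eqP (lts e ++ lts e) [13])

/-- Only `1` and `g₁₃` commute with all generators. -/
def cenOK : Bool :=
  (List.range 16384).all fun e =>
    Nat.beq e 0 || Nat.beq e 8192 ||
      (List.range 14).any fun i => !eqP (lts e ++ [i]) (i :: lts e)

/-- One edge of a tree. -/
def edgeOK (e p i : ℕ) : Bool :=
  if i < 14 then eqP (i :: lts p) (lts e ++ [i])
  else maskA.testBit (i - 16) && eqP (lts p ++ lts (i - 16)) (lts (i - 16) ++ lts p) &&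
    eqP (lts p ++ lts (i - 16)) (lts e)

/-- A tree: every parent is a seed or an earlier element. -/
def treeOK : ℕ → List (ℕ × ℕ × ℕ) → Bool
  | _, [] => true
  | seen, (e, p, i) :: l => seen.testBit p && edgeOK e p i && treeOK (seen ||| 1 <<< e) l

/-- The set of the elements of a list. -/
def setOf : List ℕ → ℕ
  | [] => 0
  | e :: l => (1 <<< e) ||| setOf l

/-- The elements of the central class. -/
def lstA : List ℕ := repA.map Prod.fst ++ treeA.map Prod.fst

/-- The elements of the other class. -/
def lstB : List ℕ := repB.map Prod.fst ++ treeB.map Prod.fst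

/-- The largest block of roots. -/
def lst4 : List ℕ := 29 :: tree4.map Prod.fst

/-- The second block of roots. -/
def lst20 : List ℕ := 1392 :: tree20.map Prod.fst

/-- The third block of roots. -/
def lst8 : List ℕ := 80 :: tree8.map Prod.fst

/-- A representative is conjugate to the target. -/
def repOK (t : ℕ) (r : ℕ × List ℕ) : Bool :=
  r.2.all (Nat.blt · 9) && eqR (r.2 ++ pcW (lts r.1)) (pcW (lts t) ++ r.2)

/-- The elements generating the Sylow subgroup. -/
def sylElts : List ℕ := sylSq.map Prod.fst ++ sylCent.map Prod.fst

/-- The generation certificate. -/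
def sylOK : Bool :=
  (sylSq.all fun r => eqP (lts r.2 ++ lts r.2) (lts r.1)) &&
  (sylCent.all fun r => eqP (lts r.1 ++ lts r.2) (lts r.2 ++ lts r.1) && maskRoot.testBit r.2) &&
  (List.range 14).all fun i =>
    (sylWords.getD i []).all (Nat.blt · sylElts.length) &&
      eqP [i] ((sylWords.getD i []).flatMap fun j => lts (sylElts.getD j 0))

/-- A word and its repetition. -/
def dbl (ws : List (List ℕ)) : List ℕ := ws.flatMap fun h => h ++ h

/-- Words commute with an element. -/
def centOK (ws : List (List ℕ)) (t : ℕ) : Bool :=
  ws.all fun h => h.all (Nat.blt · 9) && eqR (h ++ pcW (lts t)) (pcW (lts t) ++ h)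

/-- The link between two blocks of roots. -/
def linkOK : Bool :=
  centOK linkWords 1312 && lstB.contains 1312 &&
    eqR (pcW (lts 1312) ++ dbl linkWords) (pcW (lts 80)) && eqP (lts 80 ++ lts 1312) (lts 1392) &&
    eqP (lts 80 ++ lts 1312) (lts 1312 ++ lts 80)

/-- The four-group. -/
def fourOK : Bool :=
  centOK fourWords 26 && eqR (pcW [6] ++ dbl fourWords) (pcW (lts 15226)) &&
    lstB.contains 26 && lstB.contains 15226 && lstB.any fun e => eqP (lts 26 ++ lts 15226) (lts e)

/-- The seeds are roots, one of them is inverted. -/
def seedOK : Bool :=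
  eqP (lts 29 ++ lts 29) [13] && eqP (lts 80 ++ lts 80) [13] && eqP (lts 1392 ++ lts 1392) [13] &&
    eqP (lts 493 ++ lts 29 ++ lts 29 ++ lts 29) (lts 29 ++ lts 493) &&
    eqP (lts 29 ++ lts 29 ++ lts 29 ++ lts 29) [] && eqP [13, 13] []

theorem tab_ok0 : (List.range 5).all tabOK = true := by decide +kernel

theorem tab_ok1 : ((List.range' 5 5).all tabOK) = true := by decide +kernel

theorem tab_ok2 : ((List.range' 10 4).all tabOK) = true := by decide +kernel

theorem sq_ok0 : sqOK 0 = true := by decide +kernel

theorem sq_ok1 : sqOK 2048 = true := by decide +kernel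

theorem sq_ok2 : sqOK 4096 = true := by decide +kernel

theorem sq_ok3 : sqOK 6144 = true := by decide +kernel

theorem sq_ok4 : sqOK 8192 = true := by decide +kernel

theorem sq_ok5 : sqOK 10240 = true := by decide +kernel

theorem sq_ok6 : sqOK 12288 = true := by decide +kernel

theorem sq_ok7 : sqOK 14336 = true := by decide +kernel

theorem cen_ok : cenOK = true := by decide +kernel

theorem masks_ok : (Nat.beq maskA (setOf lstA) && Nat.beq maskInv (setOf (lstA ++ lstB)) &&
    Nat.beq maskRoot (setOf (lst4 ++ (lst20 ++ lst8)))) = true := by decide +kernel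

theorem treeA_ok : treeOK (setOf (repA.map Prod.fst)) treeA = true := by decide +kernel

theorem treeB_ok : treeOK (setOf (repB.map Prod.fst)) treeB = true := by decide +kernel

theorem tree4_ok : treeOK (setOf [29]) tree4 = true := by decide +kernel

theorem tree20_ok : treeOK (setOf [1392]) tree20 = true := by decide +kernel

theorem tree8_ok : treeOK (setOf [80]) tree8 = true := by decide +kernel

theorem repA_ok : repA.all (repOK 8192) = true := by decide +kernel

theorem repB_ok : repB.all (repOK 26) = true := by decide +kernel

theorem syl_ok : sylOK = true := by decide +kernel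

theorem link_ok : linkOK = true := by decide +kernel

theorem four_ok : fourOK = true := by decide +kernel

theorem seed_ok : seedOK = true := by decide +kernel

theorem letters_ok : (lts 26 == [1, 3, 4] && lts 8192 == [13] && lts 64 == [6]) = true := by
  decide +kernel

theorem nodup_ok : lst4.Nodup ∧ lst20.Nodup ∧ lst8.Nodup ∧ lstB.Nodup ∧
    (lst4 ++ lst20).Nodup ∧ (lst4 ++ lst8).Nodup ∧
    lst4.length = 240 ∧ lst20.length = 64 ∧ lst8.length = 128 ∧ lstB.length = 192 := by
  decide +kernel

theorem lt_ok : ((lstA ++ lstB ++ (lst4 ++ (lst20 ++ lst8))).all fun e => Nat.blt e 16384) = true := by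
  decide +kernel

end Cfsg.Agent.RuStandard
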