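import Cfsg.Agent.Lib.RuStandard.Model

/-!
# Involutions in a double cover of the Rudvalis group

For a stem extension `σ : Γ →* rud` with kernel `{1, z}`:

* `sylP` : the preimage of the Sylow subgroup; `center_syl`, `center_sq`
* `exists_conj_of_involution` : an involution outside the kernel lies over a conjugate of `cC`
* `mem_of_cC`, `sq_of_cC` : the elements over `cC` are involutions central in `sylP`
* `aut_fix` : automorphisms of `sylP` fix `z`
-/

set_option autoImplicit false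
set_option linter.unusedSectionVars false

namespace Cfsg.Agent.RuStandard

open Cfsg.Agent.RuPerm Cfsg.Agent.Multiplier Cfsg.Agent.MultiplierRu

universe u

/-- A double stem extension of `rud`. -/
structure Cover {Γ : Type u} [Group Γ] (σ : Γ →* rud) (z : Γ) : Prop where
  stem : Cfsg.IsStemExtension σ
  card_ker : Nat.card σ.ker = 2
  z_mem : σ z = 1
  z_ne : z ≠ 1

variable {Γ : Type u} [Group Γ] [Finite Γ] {σ : Γ →* rud} {z : Γ}

/-- The preimage of the Sylow subgroup. -/
noncomputable def sylP (σ : Γ →* rud) : Subgroup Γ := sylBar.comap σ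

theorem mem_sylP {s : Γ} : s ∈ sylP σ ↔ σ s ∈ sylBar := Subgroup.mem_comap

theorem central_ok : ((List.range 14).all fun i => eqP [13, i] [i, 13]) = true := by decide +kernel

theorem cC_comm {g : rud} (hg : g ∈ sylBar) : cC * g = g * cC := by
  rw [sylBar] at hg
  induction hg using Subgroup.closure_induction with
  | mem y hy =>
    obtain ⟨i, rfl⟩ := hy
    have h13 : (13 : ℕ) < 14 := by norm_num
    have h := pw_eq (app_lt (lts_single h13) (lts_single i.2)) (app_lt (lts_single i.2) (lts_single h13))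
      (List.all_eq_true.1 central_ok i.1 (List.mem_range.2 i.2))
    rw [TailCert.pw_append, TailCert.pw_append] at h
    rw [cC_eq]
    simpa [TailCert.pw] using h
  | one => simp
  | mul a b _ _ ha hb => rw [← mul_assoc, ha, mul_assoc, hb, mul_assoc]
  | inv a _ ha => exact (Commute.inv_right (show Commute cC a from ha)).eq

theorem cC_ne : cC ≠ 1 := fun h => by
  have := q_inj (by norm_num : (8192 : ℕ) < 16384) (by norm_num : (0 : ℕ) < 16384) (h.trans q_zero.symm)
  omega

theorem Cover.ker_cases (hc : Cover σ z) {k : Γ} (hk : σ k = 1) : k = 1 ∨ k = z := by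
  have h2 := hc.card_ker
  rw [Nat.card_eq_two_iff] at h2
  obtain ⟨a, b, hab, hu⟩ := h2
  have hm : ∀ g : σ.ker, g = a ∨ g = b := fun g => by
    have : g ∈ ({a, b} : Set σ.ker) := hu ▸ Set.mem_univ g
    simpa using this
  have h1 := hm 1
  have hz := hm ⟨z, hc.z_mem⟩
  have hk' := hm ⟨k, hk⟩
  have hne : (⟨z, hc.z_mem⟩ : σ.ker) ≠ 1 := fun h => hc.z_ne (congrArg Subtype.val h)
  rcases hk' with hk' | hk' <;> rcases h1 with h1 | h1 <;> rcases hz with hz | hz <;>
    first
      | exact absurd (hz.trans h1.symm) hne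
      | exact Or.inl (congrArg Subtype.val (hk'.trans h1.symm))
      | exact Or.inr (congrArg Subtype.val (hk'.trans hz.symm))

theorem Cover.ker_comm (hc : Cover σ z) {k : Γ} (hk : σ k = 1) (g : Γ) : g * k = k * g :=
  Subgroup.mem_center_iff.1 (hc.stem.2.1 hk) g

theorem Cover.ker_sq (hc : Cover σ z) {k : Γ} (hk : σ k = 1) : k * k = 1 := by
  rcases hc.ker_cases hk with rfl | rfl
  · exact one_mul 1
  · rcases hc.ker_cases (show σ (k * k) = 1 by rw [map_mul, hk, one_mul]) with h | h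
    · exact h
    · exact absurd (mul_eq_left.1 h) hc.z_ne

theorem Cover.congr (hc : Cover σ z) {g g' : Γ} (h : σ g = σ g') : ∃ k, σ k = 1 ∧ g' = g * k ∧
    g' * g' = g * g := by
  have hk : σ (g⁻¹ * g') = 1 := by rw [map_mul, map_inv, h, inv_mul_cancel]
  refine ⟨_, hk, (mul_inv_cancel_left g g').symm, ?_⟩
  obtain ⟨k, hke⟩ : ∃ k, k = g⁻¹ * g' := ⟨_, rfl⟩
  rw [← hke] at hk
  rw [show g' = g * k by rw [hke, mul_inv_cancel_left],
    (show Commute g k from hc.ker_comm hk g).symm.mul_mul_mul_comm, hc.ker_sq hk, mul_one]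

/-- An element commuting with `h` modulo the kernel commutes with `h * h`. -/
theorem Cover.sq_comm (hc : Cover σ z) {g h : Γ} (he : σ g * σ h = σ h * σ g) :
    g * (h * h) = h * h * g := by
  obtain ⟨k, hk, hgh, -⟩ := hc.congr (g := h * g) (g' := g * h) (by rw [map_mul, map_mul, he])
  calc g * (h * h) = g * h * h := (mul_assoc _ _ _).symm
    _ = h * (g * k) * h := by rw [hgh, mul_assoc h g k]
    _ = h * (g * (k * h)) := by simp only [mul_assoc]
    _ = h * (g * h * k) := by rw [← hc.ker_comm hk h, mul_assoc g h k]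
    _ = h * (h * g * k * k) := by rw [hgh]
    _ = h * h * g := by rw [mul_assoc (h * g), hc.ker_sq hk, mul_one, mul_assoc]

theorem Cover.eq_comm_of_sq (hc : Cover σ z) {g u : Γ} {a : Γ} (ha : σ (u * u) = σ a)
    (he : σ g * σ u = σ u * σ g) : g * a = a * g := by
  obtain ⟨k, hk, rfl, -⟩ := hc.congr ha
  rw [← mul_assoc, hc.sq_comm he, mul_assoc, hc.ker_comm hk g, ← mul_assoc]

/-- Membership of a root in one of the blocks. -/
def IsRoot (e : ℕ) : Prop := e ∈ lst4 ∨ e ∈ lst20 ∨ e ∈ lst8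

theorem root_sq {e : ℕ} (he : IsRoot e) : q e * q e = cC := by
  obtain ⟨h29, h80, h1392, -⟩ := seed_spec
  have hA : ∀ i ∈ lstA, q i * q i = 1 := by
    intro i hi
    obtain ⟨g, hg⟩ := conj_A i hi
    have h := cC_sq
    rw [← hg] at h
    have h' : g * (q i * q i) * g⁻¹ = 1 := by rw [← h]; group
    exact conj_eq_one_iff.1 h'
  have step : ∀ e p i, edgeOK e p i = true → q p * q p = cC → q e * q e = cC := by
    intro e p i h hp
    rcases edge_spec h with ⟨hi, hc⟩ | ⟨hi, hcomm, he⟩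
    · have h1 : q e = pcG i * q p * (pcG i)⁻¹ := by rw [hc, mul_inv_cancel_right]
      rw [h1, show pcG i * q p * (pcG i)⁻¹ * (pcG i * q p * (pcG i)⁻¹) =
        pcG i * (q p * q p) * (pcG i)⁻¹ by group, hp, ← cC_comm (pcG_mem hi), mul_inv_cancel_right]
    · rw [he, (show Commute (q p) (q (i - 16)) from hcomm).symm.mul_mul_mul_comm, hp, hA _ hi, mul_one]
  have key : ∀ (r : ℕ) (t : List (ℕ × ℕ × ℕ)), q r * q r = cC → treeOK (setOf [r]) t = true →
      ∀ f ∈ r :: t.map Prod.fst, q f * q f = cC := by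
    intro r t hr ht f hf
    rw [List.mem_cons] at hf
    rcases hf with rfl | hf
    · exact hr
    · refine tree_ind (P := fun e => q e * q e = cC) step t _ ht (fun e he => ?_) f hf
      have := (testBit_setOf [r] e).1 he
      rw [List.mem_singleton] at this
      exact this ▸ hr
  rcases he with he | he | he
  · exact key 29 tree4 h29 tree4_ok e he
  · exact key 1392 tree20 h1392 tree20_ok e he
  · exact key 80 tree8 h80 tree8_ok e he

theorem root_lt {e : ℕ} (h : e ∈ lstA ∨ e ∈ lstB ∨ IsRoot e) : e < 16384 := by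
  have h' := List.all_eq_true.1 lt_ok e (by
    simp only [List.mem_append]
    rcases h with h | h | h | h | h <;> tauto)
  simpa using h'

/-- Elements of the Sylow preimage centralise the elements over `cC`. -/
theorem Cover.cC_comm_syl (hc : Cover σ z) {a g : Γ} (ha : σ a = cC) (hg : g ∈ sylP σ) :
    g * a = a * g := by
  obtain ⟨D, hD⟩ : ∃ D, D = Subgroup.centralizer ({a} : Set Γ) := ⟨_, rfl⟩
  have hmem : ∀ x, x ∈ D ↔ x * a = a * x := fun x => by
    rw [hD, Subgroup.mem_centralizer_singleton_iff]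
  suffices h : sylBar ≤ D.map σ by
    obtain ⟨d, hd, he⟩ := h (mem_sylP.1 hg)
    obtain ⟨k, hk, rfl, -⟩ := hc.congr he
    rw [mul_assoc, ← hc.ker_comm hk a, ← mul_assoc, (hmem d).1 hd, mul_assoc]
  unfold sylBar
  rw [Subgroup.closure_le]
  rintro _ ⟨i, rfl⟩
  obtain ⟨l, hl, hel⟩ := sylGen i.2
  show pcG i.1 ∈ D.map σ
  rw [← hl]
  refine Subgroup.list_prod_mem _ fun x hx => ?_
  rcases hel x hx with ⟨w, hw, rfl⟩ | ⟨e, he, hcomm⟩
  · obtain ⟨w', rfl⟩ := hc.stem.1 w
    refine ⟨w' * w', (hmem _).2 ?_, map_mul σ w' w'⟩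
    refine (hc.sq_comm (g := a) (h := w') ?_).symm
    rw [ha, cC_comm hw]
  · obtain ⟨x', rfl⟩ := hc.stem.1 x
    obtain ⟨u, hu⟩ := hc.stem.1 (q e)
    exact ⟨x', (hmem _).2 (hc.eq_comm_of_sq (u := u) (by rw [map_mul, hu, root_sq he, ha])
      (by rw [hu]; exact hcomm)), rfl⟩

theorem Cover.not_dvd_index_syl (hc : Cover σ z) : ¬ 2 ∣ (sylP σ).index := by
  rw [sylP, Subgroup.index_comap_of_surjective _ hc.stem.1]
  exact not_dvd_index

theorem Cover.natCard_syl (hc : Cover σ z) : Nat.card (sylP σ) = 2 ^ 15 := by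
  have hker : σ.ker ≤ sylP σ := fun x hx => mem_sylP.2 (by
    rw [MonoidHom.mem_ker.1 hx]; exact one_mem _)
  have h := Subgroup.card_eq_card_quotient_mul_card_subgroup (σ.ker.subgroupOf (sylP σ))
  rw [Nat.card_congr (Subgroup.subgroupOfEquivOfLe hker).toEquiv, hc.card_ker,
    ← Subgroup.index_eq_card, ← Subgroup.relIndex, Subgroup.relIndex_ker, sylP,
    Subgroup.map_comap_eq_self_of_surjective hc.stem.1, natCard_sylBar] at h
  rw [sylP, h]
  norm_num

theorem Cover.isPGroup_syl (hc : Cover σ z) : IsPGroup 2 (sylP σ) :=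
  IsPGroup.of_card (hc.natCard_syl)

/-- Elements commuting with `cC` modulo the kernel centralise the elements over it. -/
theorem Cover.cC_comm_of (hc : Cover σ z) {a g : Γ} (ha : σ a = cC) (hg : σ g * cC = cC * σ g) :
    g * a = a * g := by
  obtain ⟨C, hC⟩ : ∃ C, C = (Subgroup.centralizer ({cC} : Set rud)).comap σ := ⟨_, rfl⟩
  obtain ⟨D, hD⟩ : ∃ D, D = Subgroup.centralizer ({a} : Set Γ) := ⟨_, rfl⟩
  have hmD : ∀ x, x ∈ D ↔ x * a = a * x := fun x => by
    rw [hD, Subgroup.mem_centralizer_singleton_iff]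
  have hmC : ∀ x, x ∈ C ↔ σ x * cC = cC * σ x := fun x => by
    rw [hC, Subgroup.mem_comap, Subgroup.mem_centralizer_singleton_iff]
  have hDC : D ≤ C := fun x hx => (hmC x).2 (by rw [← ha, ← map_mul, (hmD x).1 hx, map_mul])
  by_contra hne
  have hval : ∀ x ∈ C, x ∉ D → x * a = a * x * z := by
    intro x hx hxD
    obtain ⟨k, hk, he, -⟩ := hc.congr (g := a * x) (g' := x * a) (by
      rw [map_mul, map_mul, ha, (hmC x).1 hx])
    rcases hc.ker_cases hk with rfl | rfl
    · exact absurd ((hmD x).2 (by rw [he, mul_one])) hxD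
    · exact he
  have hgD : g ∉ D := fun h => hne ((hmD g).1 h)
  have hgC : g ∈ C := (hmC g).2 hg
  have hzz : z * z = 1 := hc.ker_sq hc.z_mem
  have hzc : ∀ x, x * z = z * x := hc.ker_comm hc.z_mem
  have hprod : ∀ x ∈ C, x ∉ D → x * g ∈ D := by
    intro x hx hxD
    refine (hmD _).2 ?_
    calc x * g * a = x * (a * g * z) := by rw [mul_assoc, hval g hgC hgD]
      _ = x * a * g * z := by simp only [mul_assoc]
      _ = a * x * z * g * z := by rw [hval x hx hxD]
      _ = a * x * (g * z) * z := by rw [mul_assoc (a * x) z g, hzc g]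
      _ = a * (x * g) := by simp only [mul_assoc, hzz, mul_one]
  have htwo : D.relIndex C = 2 := by
    rw [Subgroup.relIndex, Subgroup.index_eq_two_iff]
    refine ⟨⟨g, hgC⟩, fun b => ?_⟩
    simp only [Subgroup.mem_subgroupOf, Subgroup.coe_mul]
    by_cases hb : (b : Γ) ∈ D
    · exact Or.inr ⟨hb, fun h => hgD (by simpa using mul_mem (inv_mem hb) h)⟩
    · exact Or.inl ⟨hprod _ b.2 hb, hb⟩
  refine hc.not_dvd_index_syl (dvd_trans ?_ (Subgroup.index_dvd_of_le
    (show sylP σ ≤ D from fun x hx => (hmD x).2 (hc.cC_comm_syl ha hx))))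
  rw [← Subgroup.relIndex_mul_index hDC, htwo]
  exact dvd_mul_right 2 _

theorem Cover.sq_of_cC (hc : Cover σ z) {a : Γ} (ha : σ a = cC) : a * a = 1 := by
  obtain ⟨h29, -, -, hinv, -⟩ := seed_spec
  obtain ⟨u, hu⟩ := hc.stem.1 (q 29)
  obtain ⟨g, hg⟩ := hc.stem.1 (q 493)
  obtain ⟨k₁, hk₁, he₁, -⟩ := hc.congr (g := u * u) (g' := a) (by rw [map_mul, hu, h29, ha])
  obtain ⟨k, hk, hg3, -⟩ := hc.congr (g := g * u * u * u) (g' := u * g) (by
    simp only [map_mul, hu, hg, hinv])
  have hga : g * a = a * g := hc.cC_comm_syl ha (mem_sylP.2 (hg ▸ q_mem _))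
  have hu2 : u * u = a * k₁ := by rw [he₁, mul_assoc, hc.ker_sq hk₁, mul_one]
  have hug : g⁻¹ * u * g = u * u * u * k := by
    rw [mul_assoc, hg3]; group
  have hsq : g⁻¹ * (u * u) * g = u * u * u * k * (u * u * u * k) := by rw [← hug]; group
  rw [(show Commute (u * u * u) k from hc.ker_comm hk _).symm.mul_mul_mul_comm, hc.ker_sq hk, mul_one,
    show u * u * u * (u * u * u) = u * u * (u * u) * (u * u) by simp only [mul_assoc]] at hsq
  have hfix : g⁻¹ * (u * u) * g = u * u := by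
    have hgk : g * (a * k₁) = a * k₁ * g := by
      rw [← mul_assoc, hga, mul_assoc, hc.ker_comm hk₁ g, mul_assoc]
    rw [hu2, mul_assoc, ← hgk, inv_mul_cancel_left]
  have h4 : u * u * (u * u) = 1 := mul_eq_right.1 (hsq.symm.trans hfix)
  rw [hu2, (show Commute a k₁ from hc.ker_comm hk₁ a).symm.mul_mul_mul_comm, hc.ker_sq hk₁, mul_one] at h4
  exact h4

/-- Elements commuting with a conjugate of `cC` modulo the kernel centralise the elements over it. -/
theorem Cover.conj_cC_comm (hc : Cover σ z) {t g : Γ} (ht : ∃ h, h * σ t * h⁻¹ = cC)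
    (hg : σ g * σ t = σ t * σ g) : g * t = t * g ∧ t * t = 1 := by
  obtain ⟨h, hh⟩ := ht
  obtain ⟨b, rfl⟩ := hc.stem.1 h
  have ha : σ (b * t * b⁻¹) = cC := by rw [map_mul, map_mul, map_inv, hh]
  have h1 := hc.cC_comm_of (g := b * g * b⁻¹) ha (by
    rw [← ha, ← map_mul, ← map_mul, show b * g * b⁻¹ * (b * t * b⁻¹) = b * (g * t) * b⁻¹ by group,
      show b * t * b⁻¹ * (b * g * b⁻¹) = b * (t * g) * b⁻¹ by group]
    simp only [map_mul, hg])
  have h2 := hc.sq_of_cC ha
  constructor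
  · calc g * t = b⁻¹ * (b * g * b⁻¹ * (b * t * b⁻¹)) * b := by group
      _ = b⁻¹ * (b * t * b⁻¹ * (b * g * b⁻¹)) * b := by rw [h1]
      _ = t * g := by group
  · calc t * t = b⁻¹ * (b * t * b⁻¹ * (b * t * b⁻¹)) * b := by group
      _ = 1 := by rw [h2]; group

theorem Cover.sq_congr_conj (hc : Cover σ z) {t x : Γ} (h : ∃ g, g * σ t * g⁻¹ = σ x)
    (hx : σ x * σ x = 1) : t * t = x * x := by
  obtain ⟨g, hg⟩ := h
  obtain ⟨b, rfl⟩ := hc.stem.1 g
  obtain ⟨k, -, -, hsq⟩ := hc.congr (g := b * t * b⁻¹) (g' := x) (by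
    rw [map_mul, map_mul, map_inv, hg])
  rw [show b * t * b⁻¹ * (b * t * b⁻¹) = b * (t * t) * b⁻¹ by group] at hsq
  have hk : σ (x * x) = 1 := by rw [map_mul, hx]
  calc t * t = b⁻¹ * (x * x) * b := by rw [hsq]; group
    _ = x * x := by rw [hc.ker_comm hk b⁻¹, inv_mul_cancel_right]

theorem Cover.prod_sq_comm (hc : Cover σ z) {x : Γ} :
    ∀ ws : List rud, (∀ h ∈ ws, h * σ x = σ x * h) →
      ∃ s, σ s = (ws.map fun h => h * h).prod ∧ x * s = s * x
  | [], _ => ⟨1, map_one σ, by simp⟩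
  | h :: l, hl => by
    obtain ⟨s, hs, hxs⟩ := hc.prod_sq_comm l fun y hy => hl y (List.mem_cons_of_mem _ hy)
    obtain ⟨h', rfl⟩ := hc.stem.1 h
    refine ⟨h' * h' * s, by rw [map_mul, map_mul, hs, List.map_cons, List.prod_cons], ?_⟩
    rw [← mul_assoc, hc.sq_comm (hl _ List.mem_cons_self).symm, mul_assoc, hxs, ← mul_assoc]

/-- The involutions of the second class lift to elements with square `z`. -/
theorem Cover.sq_B (hc : Cover σ z) {t : Γ} {e : ℕ} (he : e ∈ lstB) (ht : σ t = q e) : t * t = z := by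
  obtain ⟨x, hx⟩ := hc.stem.1 xX
  have hx1 : σ x * σ x = 1 := by rw [hx, xX_sq]
  have hB : ∀ {t : Γ} {e : ℕ}, e ∈ lstB → σ t = q e → t * t = x * x := fun {t e} he ht =>
    hc.sq_congr_conj (by obtain ⟨g, hg⟩ := conj_B e he; exact ⟨g, by rw [ht, hg, hx]⟩) hx1
  rw [hB he ht]
  obtain ⟨-, h15, ⟨f, hf, hxf⟩, ws, hws, hy'⟩ := four_spec
  obtain ⟨s, hs, hxs⟩ := hc.prod_sq_comm (x := x) ws (by rw [hx]; exact hws)
  obtain ⟨y, hy⟩ := hc.stem.1 pairy
  obtain ⟨w, hw⟩ : ∃ w, w = y * s := ⟨_, rfl⟩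
  have hwσ : σ w = q 15226 := by rw [hw, map_mul, hy, hs, hy']
  have hw2 : w * w = x * x := hB h15 hwσ
  have hxw2 : x * w * (x * w) = x * x := hB hf (by rw [map_mul, hx, hwσ, hxf])
  have hne : x * w ≠ w * x := by
    intro h
    refine not_commute_lifts Γ σ hc.stem (hc.card_ker ▸ Nat.prime_two) x y (hx.trans xX_eq) hy ?_
    refine mul_right_cancel (b := s) ?_
    rw [mul_assoc, ← hw, h, hw, mul_assoc, ← hxs, ← mul_assoc]
  obtain ⟨k, hk, he', -⟩ := hc.congr (g := x * w) (g' := w * x) (by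
    have h1 : q f * q f = 1 := by
      obtain ⟨g, hg⟩ := conj_B f hf
      have h := xX_sq
      rw [← hg] at h
      exact conj_eq_one_iff.1 (show g * (q f * q f) * g⁻¹ = 1 by rw [← h]; group)
    have h2 : σ w * σ w = 1 := by rw [← map_mul, hw2, map_mul, hx1]
    rw [map_mul, map_mul]
    calc σ x * σ w = (σ x * σ w)⁻¹ := by
          refine eq_inv_iff_mul_eq_one.2 ?_
          rw [hx, hwσ, hxf]; exact h1
      _ = σ w * σ x := by rw [mul_inv_rev, inv_eq_of_mul_eq_one_right h2, inv_eq_of_mul_eq_one_right hx1])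
  rcases hc.ker_cases hk with rfl | rfl
  · exact absurd (by rw [he', mul_one]) hne
  · have hxx : σ (x * x) = 1 := by rw [map_mul, hx1]
    calc x * x = x * w * (x * w) := hxw2.symm
      _ = x * (w * x) * w := by simp only [mul_assoc]
      _ = x * x * (w * w) * k := by
          rw [he']
          simp only [mul_assoc]
          rw [← hc.ker_comm hk w]
      _ = k := by rw [hw2, hc.ker_sq hxx, one_mul]

theorem Cover.sq_A (hc : Cover σ z) {t : Γ} {e : ℕ} (he : e ∈ lstA) (ht : σ t = q e) : t * t = 1 :=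
  (hc.conj_cC_comm (t := t) (g := t) (by obtain ⟨g, hg⟩ := conj_A e he; exact ⟨g, by rw [ht, hg]⟩) rfl).2

/-- An involution outside the kernel lies over a conjugate of `cC`. -/
theorem Cover.exists_conj_of_involution (hc : Cover σ z) {t : Γ} (h2 : t * t = 1) (hk : σ t ≠ 1) :
    ∃ g, g * σ t * g⁻¹ = cC := by
  have : Fact (Nat.Prime 2) := ⟨Nat.prime_two⟩
  let S : Sylow 2 rud := (IsPGroup.of_card (n := 14) (by rw [natCard_sylBar]; norm_num)).toSylow not_dvd_index
  have hord : orderOf (σ t) = 2 := orderOf_eq_prime (by rw [sq, ← map_mul, h2, map_one]) hk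
  obtain ⟨T, hT⟩ := (IsPGroup.of_card (n := 1) (by rw [Nat.card_zpowers, hord, pow_one]) :
    IsPGroup 2 (Subgroup.zpowers (σ t))).exists_le_sylow
  obtain ⟨g, hg⟩ := MulAction.exists_smul_eq rud T S
  have hm : g * σ t * g⁻¹ ∈ sylBar := by
    have h : g * σ t * g⁻¹ ∈ ((g • T : Sylow 2 rud) : Subgroup rud) :=
      Subgroup.smul_mem_pointwise_smul _ (MulAut.conj g) _ (hT (Subgroup.mem_zpowers _))
    rw [hg] at h
    exact h
  obtain ⟨e, he, hqe⟩ := exists_q hm
  obtain ⟨b, hb⟩ := hc.stem.1 g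
  obtain ⟨t', ht'⟩ : ∃ t', t' = b * t * b⁻¹ := ⟨_, rfl⟩
  have hσ' : σ t' = q e := by rw [ht', map_mul, map_mul, map_inv, hb, hqe]
  have h2' : t' * t' = 1 := by
    rw [ht', show b * t * b⁻¹ * (b * t * b⁻¹) = b * (t * t) * b⁻¹ by group, h2]; group
  have hqq : q e * q e = 1 := by rw [← hσ', ← map_mul, h2', map_one]
  have hroot : IsRoot e → False := fun h => cC_ne ((root_sq h).symm.trans hqq)
  rcases sq_cases he (Or.inl hqq) with h | h | h | h | h | h
  · subst h
    rw [q_zero] at hqe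
    exact absurd (conj_eq_one_iff.1 hqe.symm) hk
  · obtain ⟨g', hg'⟩ := conj_A e h
    exact ⟨g' * g, by rw [← hg', hqe]; group⟩
  · exact absurd ((hc.sq_B h hσ').symm.trans h2') hc.z_ne
  · exact absurd (Or.inl h) hroot
  · exact absurd (Or.inr (Or.inl h)) hroot
  · exact absurd (Or.inr (Or.inr h)) hroot

/-- All lifts of the roots in one block have the same square. -/
theorem Cover.block_sq (hc : Cover σ z) {r : ℕ} {t : List (ℕ × ℕ × ℕ)} {u : Γ} (hu : σ u = q r)
    (hr : q r * q r = cC) (ht : treeOK (setOf [r]) t = true) :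
    ∀ e ∈ r :: t.map Prod.fst, ∀ s, σ s = q e → s * s = u * u := by
  have hbase : ∀ s, σ s = q r → s * s = u * u := fun s hs => by
    obtain ⟨k, -, -, h⟩ := hc.congr (g := u) (g' := s) (hu.trans hs.symm)
    exact h
  have hw : σ (u * u) = cC := by rw [map_mul, hu, hr]
  intro e he
  rw [List.mem_cons] at he
  rcases he with rfl | he
  · exact hbase
  refine tree_ind (P := fun e => ∀ s, σ s = q e → s * s = u * u) (fun a p i h hp s hs => ?_) t _ ht
    (fun f hf => by
      have := (testBit_setOf [r] f).1 hf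
      rw [List.mem_singleton] at this
      exact this ▸ hbase) e he
  obtain ⟨p', hp'⟩ := hc.stem.1 (q p)
  rcases edge_spec h with ⟨hi, hcj⟩ | ⟨hi, hcomm, hea⟩
  · obtain ⟨g, hg⟩ := hc.stem.1 (pcG i)
    obtain ⟨k, -, -, h'⟩ := hc.congr (g := g * p' * g⁻¹) (g' := s) (by
      rw [map_mul, map_mul, map_inv, hg, hp', hs, hcj, mul_inv_cancel_right])
    rw [h', show g * p' * g⁻¹ * (g * p' * g⁻¹) = g * (p' * p') * g⁻¹ by group, hp p' hp',
      hc.cC_comm_syl hw (mem_sylP.2 (hg ▸ pcG_mem hi)), mul_inv_cancel_right]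
  · obtain ⟨i', hi'⟩ := hc.stem.1 (q (i - 16))
    obtain ⟨hc1, hc2⟩ := hc.conj_cC_comm (t := i') (g := p')
      (by obtain ⟨g, hg⟩ := conj_A _ hi; exact ⟨g, by rw [hi', hg]⟩) (by rw [hp', hi', hcomm])
    obtain ⟨k, -, -, h'⟩ := hc.congr (g := p' * i') (g' := s) (by rw [map_mul, hp', hi', hs, hea])
    rw [h', (show Commute p' i' from hc1).symm.mul_mul_mul_comm, hc2, mul_one, hp p' hp']

/-- The squares in the blocks. -/
theorem Cover.exists_blocks (hc : Cover σ z) : ∃ w4 w20 w8 : Γ, w20 = w8 * z ∧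
    (∀ e ∈ lst4, ∀ s, σ s = q e → s * s = w4) ∧ (∀ e ∈ lst20, ∀ s, σ s = q e → s * s = w20) ∧
      ∀ e ∈ lst8, ∀ s, σ s = q e → s * s = w8 := by
  obtain ⟨h29, h80, h1392, -⟩ := seed_spec
  obtain ⟨h13, hprod, -, ws, hws, hv⟩ := link_spec
  obtain ⟨u, hu⟩ := hc.stem.1 (q 29)
  obtain ⟨y, hy⟩ := hc.stem.1 (q 1312)
  obtain ⟨s, hs, hys⟩ := hc.prod_sq_comm (x := y) ws (by rw [hy]; exact hws)
  obtain ⟨v, hvd⟩ : ∃ v, v = y * s := ⟨_, rfl⟩
  have hvσ : σ v = q 80 := by rw [hvd, map_mul, hy, hs, hv]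
  have hvy : Commute v y := by rw [hvd]; exact (Commute.refl y).mul_left (show Commute s y from hys.symm)
  refine ⟨u * u, v * y * (v * y), v * v, ?_, hc.block_sq hu h29 tree4_ok,
    hc.block_sq (by rw [map_mul, hvσ, hy, hprod]) h1392 tree20_ok, hc.block_sq hvσ h80 tree8_ok⟩
  rw [hvy.symm.mul_mul_mul_comm, hc.sq_B h13 hy]

theorem Cover.center_syl (hc : Cover σ z) {p : Γ} (hp : p ∈ sylP σ)
    (h : ∀ s ∈ sylP σ, s * p = p * s) : p = 1 ∨ p = z ∨ σ p = cC := by
  rcases center_cases (mem_sylP.1 hp) (fun i hi => by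
    obtain ⟨g, hg⟩ := hc.stem.1 (pcG i)
    rw [← hg, ← map_mul, ← map_mul, h g (mem_sylP.2 (hg ▸ pcG_mem hi))]) with h1 | h1
  · rcases hc.ker_cases h1 with h2 | h2
    · exact Or.inl h2
    · exact Or.inr (Or.inl h2)
  · exact Or.inr (Or.inr h1)

theorem Cover.center_sq (hc : Cover σ z) {p : Γ} (hp : p ∈ sylP σ)
    (h : ∀ s ∈ sylP σ, s * p = p * s) : p * p = 1 := by
  rcases hc.center_syl hp h with rfl | rfl | h1
  · exact one_mul 1
  · exact hc.ker_sq hc.z_mem
  · exact hc.sq_of_cC h1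

theorem Cover.card_over (hc : Cover σ z) {L : List ℕ} (hnd : L.Nodup) (hlt : ∀ e ∈ L, e < 16384) :
    Nat.card {s : Γ // ∃ e ∈ L, σ s = q e} = 2 * L.length := by
  choose ℓ hℓ using fun e : ℕ => hc.stem.1 (q e)
  let F : {e // e ∈ L} × σ.ker → {s : Γ // ∃ e ∈ L, σ s = q e} := fun x =>
    ⟨ℓ x.1 * x.2, x.1, x.1.2, by rw [map_mul, hℓ, MonoidHom.mem_ker.1 x.2.2, mul_one]⟩
  have hF : Function.Bijective F := by
    refine ⟨fun x y h => ?_, fun s => ?_⟩
    · obtain ⟨⟨e, he⟩, k⟩ := x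
      obtain ⟨⟨f, hf⟩, l⟩ := y
      have h' : ℓ e * k = ℓ f * l := congrArg Subtype.val h
      have hσ := congrArg σ h'
      rw [map_mul, map_mul, hℓ, hℓ, MonoidHom.mem_ker.1 k.2, MonoidHom.mem_ker.1 l.2, mul_one, mul_one] at hσ
      obtain rfl := q_inj (hlt e he) (hlt f hf) hσ
      rw [Subtype.ext (mul_left_cancel h') (a1 := k) (a2 := l)]
    · obtain ⟨s, e, he, hs⟩ := s
      obtain ⟨k, hk, hks, -⟩ := hc.congr (g := ℓ e) (g' := s) (by rw [hℓ, hs])
      exact ⟨(⟨e, he⟩, ⟨k, hk⟩), Subtype.ext hks.symm⟩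
  rw [← Nat.card_congr (Equiv.ofBijective F hF), Nat.card_prod, hc.card_ker, mul_comm]
  congr 1
  rw [Nat.card_congr (Equiv.subtypeEquivRight fun e => (List.mem_toFinset (l := L) (a := e)).symm),
    Nat.card_eq_fintype_card, Fintype.card_coe, List.toFinset_card_of_nodup hnd]

theorem card_sylP_sq (w : Γ) (hw : w ∈ sylP σ) {L : List ℕ}
    (h : ∀ s : Γ, (s ∈ sylP σ ∧ s * s = w) ↔ ∃ e ∈ L, σ s = q e) :
    Nat.card {s : sylP σ // s * s = ⟨w, hw⟩} = Nat.card {s : Γ // ∃ e ∈ L, σ s = q e} :=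
  Nat.card_congr
    { toFun := fun s => ⟨s.1.1, (h _).1 ⟨s.1.2, congrArg Subtype.val s.2⟩⟩
      invFun := fun s => ⟨⟨s.1, ((h _).2 s.2).1⟩, Subtype.ext ((h _).2 s.2).2⟩
      left_inv := fun _ => rfl
      right_inv := fun _ => rfl }

/-- Automorphisms of the Sylow preimage fix `z`. -/
theorem Cover.aut_fix (hc : Cover σ z) (φ : sylP σ ≃* sylP σ) (hz : z ∈ sylP σ) :
    φ ⟨z, hz⟩ = ⟨z, hz⟩ := by
  obtain ⟨w, hwd⟩ : ∃ w, w = φ ⟨z, hz⟩ := ⟨_, rfl⟩
  rw [← hwd]
  have hcent : ∀ s ∈ sylP σ, s * w.1 = w.1 * s := by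
    intro s hs
    obtain ⟨s', hs'⟩ := φ.surjective ⟨s, hs⟩
    have h0 : s' * ⟨z, hz⟩ = ⟨z, hz⟩ * s' := Subtype.ext (hc.ker_comm hc.z_mem _)
    have h1 := congrArg φ h0
    rw [map_mul, map_mul, hs', ← hwd] at h1
    exact congrArg Subtype.val h1
  have hw1 : w ≠ 1 := by
    rw [hwd, ← map_one φ]
    exact fun h => hc.z_ne (congrArg Subtype.val (φ.injective h))
  rcases hc.center_syl w.2 hcent with h | h | h
  · exact absurd (Subtype.ext h) hw1
  · exact Subtype.ext h
  exfalso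
  obtain ⟨w4, w20, w8, h208, h4, h20, h8⟩ := hc.exists_blocks
  have hcount : Nat.card {s : sylP σ // s * s = ⟨z, hz⟩} = Nat.card {s : sylP σ // s * s = w} :=
    Nat.card_congr (φ.toEquiv.subtypeEquiv fun s => by
      show s * s = _ ↔ φ s * φ s = w
      rw [← map_mul, hwd, φ.injective.eq_iff])
  obtain ⟨hn4, hn20, hn8, hnB, hn420, hn48, l4, l20, l8, lB⟩ := nodup_ok
  have hover : ∀ {s : Γ} {e : ℕ}, σ s = q e → s ∈ sylP σ := fun {s e} hs => mem_sylP.2 (hs ▸ q_mem e)
  have hz' : ∀ s : Γ, (s ∈ sylP σ ∧ s * s = z) ↔ ∃ e ∈ lstB, σ s = q e := by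
    refine fun s => ⟨fun ⟨hs, h2⟩ => ?_, fun ⟨e, he, hse⟩ => ⟨hover hse, hc.sq_B he hse⟩⟩
    obtain ⟨e, he, hqe⟩ := exists_q (mem_sylP.1 hs)
    have hqq : q e * q e = 1 := by rw [hqe, ← map_mul, h2, hc.z_mem]
    have hroot : IsRoot e → False := fun hr => cC_ne ((root_sq hr).symm.trans hqq)
    rcases sq_cases he (Or.inl hqq) with h' | h' | h' | h' | h' | h'
    · subst h'
      rw [q_zero] at hqe
      exact absurd (h2.symm.trans (hc.ker_sq hqe.symm)) hc.z_ne
    · exact absurd (h2.symm.trans (hc.sq_A h' hqe.symm)) hc.z_ne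
    · exact ⟨e, h', hqe.symm⟩
    · exact absurd (Or.inl h') hroot
    · exact absurd (Or.inr (Or.inl h')) hroot
    · exact absurd (Or.inr (Or.inr h')) hroot
  have hsize : ∀ {L : List ℕ}, L.Nodup → (∀ e ∈ L, IsRoot e) →
      (∀ e, IsRoot e → ∀ s, σ s = q e → (s * s = w.1 ↔ e ∈ L)) → L.length = 192 := by
    intro L hnd hL hiff
    have hw' : ∀ s : Γ, (s ∈ sylP σ ∧ s * s = w.1) ↔ ∃ e ∈ L, σ s = q e := by
      refine fun s => ⟨fun ⟨hs, h2⟩ => ?_, fun ⟨e, he, hse⟩ => ⟨hover hse, (hiff e (hL e he) s hse).2 he⟩⟩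
      obtain ⟨e, he, hqe⟩ := exists_q (mem_sylP.1 hs)
      have hqq : q e * q e = cC := by rw [hqe, ← map_mul, h2, h]
      have hr : IsRoot e := by
        rcases sq_cases he (Or.inr hqq) with h' | h' | h' | h'
        · subst h'
          rw [q_zero, one_mul] at hqq
          exact absurd hqq.symm cC_ne
        · have h1 := hc.sq_A h' hqe.symm
          rw [h2] at h1
          rw [h1, map_one] at h
          exact absurd h.symm cC_ne
        · have h1 := hc.sq_B h' hqe.symm
          rw [h2] at h1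
          rw [h1, hc.z_mem] at h
          exact absurd h.symm cC_ne
        · exact h'
      exact ⟨e, (hiff e hr s hqe.symm).1 h2, hqe.symm⟩
    have e1 := card_sylP_sq z hz hz'
    have e2 := card_sylP_sq w.1 w.2 hw'
    rw [hc.card_over hnB fun e he => root_lt (Or.inr (Or.inl he)), lB] at e1
    rw [hc.card_over hnd fun e he => root_lt (Or.inr (Or.inr (hL e he)))] at e2
    have e3 : Nat.card {s : sylP σ // s * s = w} = 2 * L.length := e2
    omega
  have hne : ∀ a : Γ, a * z ≠ a := fun a ha => hc.z_ne (mul_eq_left.1 ha)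
  have hzz : z * z = 1 := hc.ker_sq hc.z_mem
  have hw8 : w8 = w.1 ∨ w20 = w.1 := by
    obtain ⟨u, hu⟩ := hc.stem.1 (q 80)
    obtain ⟨k, hk, he, -⟩ := hc.congr (g := w.1) (g' := u * u) (by
      rw [h, map_mul, hu, (seed_spec).2.1])
    have h8' := h8 80 List.mem_cons_self u hu
    rcases hc.ker_cases hk with rfl | rfl
    · exact Or.inl (by rw [← h8', he, mul_one])
    · exact Or.inr (by rw [h208, ← h8', he, mul_assoc, hzz, mul_one])
  have hd1 : w20 = w.1 → w8 ≠ w.1 := fun h1 h2 => hne w8 (by rw [← h208, h1, h2])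
  rcases hw8 with h88 | h20' <;> by_cases h44 : w4 = w.1
  · have := hsize hn48 (fun e he => (List.mem_append.1 he).elim Or.inl fun h' => Or.inr (Or.inr h'))
      (by
        rintro e (he | he | he) s hs
        · rw [h4 e he s hs]; exact iff_of_true h44 (List.mem_append_left _ he)
        · rw [h20 e he s hs]
          refine iff_of_false (fun h1 => hd1 h1 h88) fun hm => hd1 ?_ h88
          rw [← h20 e he s hs]
          rcases List.mem_append.1 hm with hm | hm
          · rw [h4 e hm s hs, h44]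
          · rw [h8 e hm s hs, h88]
        · rw [h8 e he s hs]; exact iff_of_true h88 (List.mem_append_right _ he))
    rw [List.length_append] at this
    omega
  · have := hsize hn8 (fun e he => Or.inr (Or.inr he))
      (by
        rintro e (he | he | he) s hs
        · rw [h4 e he s hs]
          exact iff_of_false h44 fun hm => h44 (by rw [← h4 e he s hs, h8 e hm s hs, h88])
        · rw [h20 e he s hs]
          exact iff_of_false (fun h1 => hd1 h1 h88) fun hm =>
            hd1 (by rw [← h20 e he s hs, h8 e hm s hs, h88]) h88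
        · rw [h8 e he s hs]; exact iff_of_true h88 he)
    omega
  · have := hsize hn420 (fun e he => (List.mem_append.1 he).elim Or.inl fun h' => Or.inr (Or.inl h'))
      (by
        rintro e (he | he | he) s hs
        · rw [h4 e he s hs]; exact iff_of_true h44 (List.mem_append_left _ he)
        · rw [h20 e he s hs]; exact iff_of_true h20' (List.mem_append_right _ he)
        · rw [h8 e he s hs]
          refine iff_of_false (hd1 h20') fun hm => hd1 h20' ?_
          rw [← h8 e he s hs]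
          rcases List.mem_append.1 hm with hm | hm
          · rw [h4 e hm s hs, h44]
          · rw [h20 e hm s hs, h20'])
    rw [List.length_append] at this
    omega
  · have := hsize hn20 (fun e he => Or.inr (Or.inl he))
      (by
        rintro e (he | he | he) s hs
        · rw [h4 e he s hs]
          exact iff_of_false h44 fun hm => h44 (by rw [← h4 e he s hs, h20 e hm s hs, h20'])
        · rw [h20 e he s hs]; exact iff_of_true h20' he
        · rw [h8 e he s hs]
          exact iff_of_false (hd1 h20') fun hm =>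
            hd1 h20' (by rw [← h8 e he s hs, h20 e hm s hs, h20']))
    omega

end Cfsg.Agent.RuStandard
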