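import Cfsg.Agent.Lib.RuStandard.Cover
import Cfsg.Agent.Lib.OutRu.Out
import Cfsg.Agent.Lib.StdElem.Basic
import Cfsg.Agent.Lib.ZStar.Apply
import Cfsg.Agent.Lib.ZStar.Unique

/-!
# Standard subgroups covering the Rudvalis group twice, with cyclic Sylow 2-subgroups of the centraliser

Main result: `normal_of_standard`: such a subgroup of a group with trivial core is normal.
-/

set_option autoImplicit false
open scoped Pointwise
open Cfsg
open Cfsg.Agent.RuPerm

namespace Cfsg.Agent.RuStandard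

universe u

/-- Every automorphism of `rud` is inner. -/
theorem rud_inner (β : MulAut rud) : ∃ g : rud, ∀ x, β x = g * x * g⁻¹ := by
  have hout := OutRu.natCard_out_rud
  rw [Nat.card_eq_one_iff_unique] at hout
  have := hout.1
  have hb : (QuotientGroup.mk β : Cfsg.Out rud) = 1 := Subsingleton.elim _ _
  obtain ⟨g, hg⟩ := (QuotientGroup.eq_one_iff β).1 hb
  exact ⟨g, fun x => by rw [← hg]; rfl⟩

/-- Every automorphism of a perfect double cover of `rud` is inner. -/
theorem exists_inner {Γ : Type u} [Group Γ] [Finite Γ] {σ : Γ →* rud} {z : Γ} (hc : Cover σ z)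
    (hperf : commutator Γ = ⊤) (hker : σ.ker = Subgroup.center Γ) (α : MulAut Γ) :
    ∃ a : Γ, ∀ x, α x = a * x * a⁻¹ := by
  have hα : ∀ x, σ x = 1 → σ (α x) = 1 := by
    intro x hx
    have h1 : x ∈ Subgroup.center Γ := hker ▸ MonoidHom.mem_ker.2 hx
    refine MonoidHom.mem_ker.1 (hker ▸ ?_ : α x ∈ σ.ker)
    refine Subgroup.mem_center_iff.2 fun g => ?_
    obtain ⟨h, rfl⟩ := α.surjective g
    rw [← map_mul, ← map_mul, Subgroup.mem_center_iff.1 h1 h]
  choose ℓ hℓ using hc.stem.1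
  let β₀ : rud →* rud :=
    { toFun := fun g => σ (α (ℓ g))
      map_one' := hα _ (hℓ 1)
      map_mul' := fun g h => by
        have h1 := hα ((ℓ g * ℓ h)⁻¹ * ℓ (g * h)) (by rw [map_mul, map_inv, map_mul, hℓ, hℓ, hℓ, inv_mul_cancel])
        rw [map_mul, map_inv, map_mul, map_mul, map_inv, map_mul, inv_mul_eq_one] at h1
        exact h1.symm }
  have hβ₀ : ∀ x, β₀ (σ x) = σ (α x) := by
    intro x
    have h1 := hα ((ℓ (σ x))⁻¹ * x) (by rw [map_mul, map_inv, hℓ, inv_mul_cancel])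
    rw [map_mul, map_inv, map_mul, map_inv, inv_mul_eq_one] at h1
    exact h1
  have hsurj : Function.Surjective β₀ := fun g => by
    obtain ⟨y, rfl⟩ := hc.stem.1 g
    exact ⟨σ (α.symm y), by rw [hβ₀, MulEquiv.apply_symm_apply]⟩
  obtain ⟨g, hg⟩ := rud_inner (MulEquiv.ofBijective β₀ (Finite.surjective_iff_bijective.1 hsurj))
  obtain ⟨a, rfl⟩ := hc.stem.1 g
  have hd : ∀ x, (a * x * a⁻¹)⁻¹ * α x ∈ Subgroup.center Γ := fun x => by
    rw [← hker, MonoidHom.mem_ker, map_mul, map_inv, map_mul, map_mul, map_inv, ← hg (σ x)]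
    show (β₀ (σ x))⁻¹ * σ (α x) = 1
    rw [hβ₀, inv_mul_cancel]
  let d : Γ →* Subgroup.center Γ :=
    { toFun := fun x => ⟨_, hd x⟩
      map_one' := Subtype.ext (by simp)
      map_mul' := fun x y => Subtype.ext (by
        show (a * (x * y) * a⁻¹)⁻¹ * α (x * y) = (a * x * a⁻¹)⁻¹ * α x * ((a * y * a⁻¹)⁻¹ * α y)
        rw [map_mul]
        calc (a * (x * y) * a⁻¹)⁻¹ * (α x * α y)
            = (a * y * a⁻¹)⁻¹ * ((a * x * a⁻¹)⁻¹ * α x) * α y := by group
          _ = (a * x * a⁻¹)⁻¹ * α x * (a * y * a⁻¹)⁻¹ * α y := by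
              rw [Subgroup.mem_center_iff.1 (hd x) ((a * y * a⁻¹)⁻¹)]
          _ = _ := by group) }
  refine ⟨a, fun x => ?_⟩
  have hcom : ∀ u v : Subgroup.center Γ, u * v = v * u := fun u v =>
    Subtype.ext (Subgroup.mem_center_iff.1 v.2 u)
  have hle : commutator Γ ≤ d.ker := by
    rw [commutator_eq_closure, Subgroup.closure_le]
    rintro _ ⟨y, w, rfl⟩
    simp only [SetLike.mem_coe, MonoidHom.mem_ker, map_commutatorElement]
    exact commutatorElement_eq_one_iff_mul_comm.2 (hcom _ _)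
  have h1 : (a * x * a⁻¹)⁻¹ * α x = 1 :=
    congrArg Subtype.val (MonoidHom.mem_ker.1 (hle (hperf.ge (Subgroup.mem_top x))))
  exact (inv_mul_eq_one.1 h1).symm

variable {G : Type u} [Group G] [Finite G] {A : Subgroup G} {σ : A →* rud} {zA : A}

/-- A standard double cover of `rud` with cyclic Sylow 2-subgroups of its centraliser is normal. -/
theorem normal_of_standard (hO : Cfsg.oddCore G = ⊥) (hA : Cfsg.IsStandardSubgroup A)
    (hc : Cover σ zA) (hker : σ.ker = Subgroup.center A)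
    (hR : ∀ R : Sylow 2 ↥(Subgroup.centralizer (A : Set G)),
      IsCyclic ↥(R : Subgroup ↥(Subgroup.centralizer (A : Set G)))) : A.Normal := by
  have : Fact (Nat.Prime 2) := ⟨Nat.prime_two⟩
  have hperf : commutator A = ⊤ := by
    rw [← Group.isPerfect_def]
    exact hA.1.1
  set C := Subgroup.centralizer (A : Set G) with hC
  set N := Subgroup.normalizer (A : Set G) with hN
  set z : G := zA.1 with hz
  have hzA : ∀ x : A, x * zA = zA * x := hc.ker_comm hc.z_mem
  have hz2 : z * z = 1 := congrArg Subtype.val (hc.ker_sq hc.z_mem)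
  have hzne : z ≠ 1 := fun h => hc.z_ne (Subtype.ext h)
  have hzC : z ∈ C := fun x hx => congrArg Subtype.val (hzA ⟨x, hx⟩)
  have hzord : orderOf z = 2 := orderOf_eq_prime (by rw [sq, hz2]) hzne
  have hCN : C ≤ N := Subgroup.centralizer_le_normalizer _
  have hAN : A ≤ N := Subgroup.le_normalizer
  have hcomm : ∀ {c : G}, c ∈ C → ∀ x : A, (x : G) * c = c * x := fun hc' x => hc' _ x.2
  have hnorm : ∀ n ∈ N, ∃ a : A, ∃ c ∈ C, n = a * c := by
    intro n hn
    let α : MulAut A :=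
      { toFun := fun x => ⟨n * x * n⁻¹, (Subgroup.mem_normalizer_iff.1 hn _).1 x.2⟩
        invFun := fun x => ⟨n⁻¹ * x * n, (Subgroup.mem_normalizer_iff''.1 hn _).1 x.2⟩
        left_inv := fun x => Subtype.ext (by group)
        right_inv := fun x => Subtype.ext (by group)
        map_mul' := fun x y => Subtype.ext (by simp [mul_assoc]) }
    obtain ⟨a, ha⟩ := exists_inner hc hperf hker α
    refine ⟨a, (a : G)⁻¹ * n, ?_, by group⟩
    intro y hy
    have h : n * y * n⁻¹ = a * y * (a : G)⁻¹ := congrArg Subtype.val (ha ⟨y, hy⟩)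
    calc y * ((a : G)⁻¹ * n) = (a : G)⁻¹ * ((a : G) * y * (a : G)⁻¹) * n := by group
      _ = (a : G)⁻¹ * (n * y * n⁻¹) * n := by rw [h]
      _ = (a : G)⁻¹ * n * y := by group
  have hNz : ∀ n ∈ N, n * z = z * n := by
    intro n hn
    obtain ⟨a, c, hc', rfl⟩ := hnorm n hn
    rw [mul_assoc, show c * z = z * c from (hcomm hc' zA).symm, ← mul_assoc,
      show (a : G) * z = z * a from congrArg Subtype.val (hzA a), mul_assoc]
  have hzN : ∀ n, n * z = z * n → n ∈ N := fun n h =>
    StdElem.centralizer_le_normalizer_of_standard hA hzord hzC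
      (Subgroup.mem_centralizer_singleton_iff.2 h)
  -- a Sylow subgroup of the centraliser
  let zC : C := ⟨z, hzC⟩
  have hzC2 : orderOf zC = 2 := by rw [Subgroup.orderOf_mk]; exact hzord
  obtain ⟨R, hzR⟩ := (IsPGroup.of_card (n := 1)
    (by rw [Nat.card_zpowers, hzC2, pow_one]) : IsPGroup 2 (Subgroup.zpowers zC)).exists_le_sylow
  obtain ⟨⟨rC, hrR⟩, hgen⟩ := (hR R).exists_generator
  set r : G := (rC : G) with hr
  obtain ⟨k', hk'⟩ := R.isPGroup'.exists_card_eq
  have hord : orderOf r = 2 ^ k' := by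
    rw [hr, Subgroup.orderOf_coe, ← hk', ← orderOf_eq_card_of_forall_mem_zpowers hgen]
    exact Subgroup.orderOf_coe ⟨rC, hrR⟩
  have hk0 : k' ≠ 0 := by
    intro h
    rw [h, pow_zero] at hk'
    have hbot := Subgroup.eq_bot_of_card_eq (R : Subgroup C) hk'
    have hm := hzR (Subgroup.mem_zpowers zC)
    rw [hbot, Subgroup.mem_bot] at hm
    exact hzne (congrArg Subtype.val hm)
  obtain ⟨k, rfl⟩ : ∃ k, k' = k + 1 := Nat.exists_eq_succ_of_ne_zero hk0
  set M := 2 ^ k with hM
  have hrM : r ^ M = z := by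
    have h2 : orderOf (rC ^ M) = 2 := by
      rw [orderOf_pow' rC (pow_ne_zero k two_ne_zero), ← Subgroup.orderOf_coe rC, hord,
        Nat.gcd_eq_right (pow_dvd_pow 2 (Nat.le_succ k)), pow_succ,
        Nat.mul_div_cancel_left _ (pow_pos (by norm_num) k)]
    have hc' : Commute zC (rC ^ M) := Subtype.ext (hcomm (rC ^ M : C).2 zA)
    exact (congrArg Subtype.val (StdElem.eq_of_cyclic_sylow hR hzC2 h2 hc')).symm
  have hrc : ∀ x : A, (x : G) * r = r * x := fun x => hcomm rC.2 x
  have hrMi : ∀ i : ℕ, (r ^ i) ^ M = 1 ∨ (r ^ i) ^ M = z := by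
    intro i
    rw [← pow_mul, mul_comm, pow_mul, hrM]
    rcases Nat.even_or_odd i with ⟨j, rfl⟩ | ⟨j, rfl⟩
    · exact Or.inl (by rw [← two_mul, pow_mul, pow_two, hz2, one_pow])
    · exact Or.inr (by rw [pow_succ, pow_mul, pow_two, hz2, one_pow, one_mul])
  -- a Sylow subgroup
  let f : A × C →* G := A.subtype.noncommCoprod C.subtype fun x c => hcomm c.2 x
  have hfN : f.range = N := by
    refine le_antisymm ?_ fun n hn => ?_
    · rintro _ ⟨⟨x, c⟩, rfl⟩
      exact mul_mem (hAN x.2) (hCN c.2)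
    · obtain ⟨a, c, hc', rfl⟩ := hnorm n hn
      exact ⟨⟨a, ⟨c, hc'⟩⟩, rfl⟩
  set P := (sylP σ).prod (R : Subgroup C) with hP
  set S := P.map f with hSdef
  have hmemS : ∀ s ∈ S, ∃ p ∈ sylP σ, ∃ i : ℕ, s = (p : G) * r ^ i := by
    rintro _ ⟨⟨p, c⟩, ⟨hp, hc'⟩, rfl⟩
    have h1 := hgen ⟨c, hc'⟩
    rw [← mem_powers_iff_mem_zpowers] at h1
    obtain ⟨i, hi⟩ := h1
    refine ⟨p, hp, i, ?_⟩
    show (p : G) * (c : G) = _
    have h2 : rC ^ i = c := by simpa using congrArg Subtype.val hi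
    rw [← h2]
    rfl
  have hzsyl : zA ∈ sylP σ := mem_sylP.2 (by rw [hc.z_mem]; exact one_mem _)
  have hpS : ∀ p ∈ sylP σ, (p : G) ∈ S := fun p hp =>
    ⟨⟨p, 1⟩, ⟨hp, one_mem _⟩, by show (p : G) * ((1 : C) : G) = _; simp⟩
  have hrS : r ∈ S :=
    ⟨⟨1, rC⟩, ⟨one_mem _, hrR⟩, by show ((1 : A) : G) * (rC : G) = r; rw [OneMemClass.coe_one, one_mul]⟩
  have hrcS : ∀ s ∈ S, s * r = r * s := by
    intro s hs
    obtain ⟨p, -, i, rfl⟩ := hmemS s hs
    rw [mul_assoc, (Commute.pow_self r i).eq, ← mul_assoc, hrc, mul_assoc]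
  have hSN : S ≤ N := hfN ▸ Subgroup.map_le_range f P
  have hPc : IsPGroup 2 P := IsPGroup.of_card (n := 15 + (k + 1)) (by
    rw [hP, Nat.card_congr (Subgroup.prodEquiv _ _).toEquiv, Nat.card_prod, hc.natCard_syl, hk', pow_add 2 15 (k + 1)])
  have hS2 : IsPGroup 2 S := hPc.map f
  -- elements normalising the Sylow subgroup fix `z`
  have hF : ∀ g ∈ Subgroup.normalizer (S : Set G), g * z * g⁻¹ = z := by
    intro g hg
    have hconj : ∀ s, s ∈ S → g * s * g⁻¹ ∈ S := fun s hs => (Subgroup.mem_normalizer_iff.1 hg s).1 hs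
    rcases Nat.eq_zero_or_pos k with hk | hk
    · have hrz : r = z := by rw [← hrM, hM, hk, pow_zero, pow_one]
      have hS' : ∀ s ∈ S, ∃ p ∈ sylP σ, (p : G) = s := by
        intro s hs
        obtain ⟨p, hp, i, rfl⟩ := hmemS s hs
        exact ⟨p * zA ^ i, mul_mem hp (pow_mem hzsyl i), by rw [hrz]; rfl⟩
      choose f' hf'S hf' using fun p : sylP σ => hS' _ (hconj _ (hpS p.1 p.2))
      let φ : sylP σ →* sylP σ :=
        { toFun := fun p => ⟨f' p, hf'S p⟩
          map_one' := Subtype.ext (Subtype.ext (by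
            show ((f' 1 : A) : G) = ((1 : A) : G)
            rw [hf']; simp))
          map_mul' := fun p q => Subtype.ext (Subtype.ext (by
            show ((f' (p * q) : A) : G) = (f' p : G) * (f' q : G)
            rw [hf', hf', hf', Subgroup.coe_mul, Subgroup.coe_mul]; group)) }
      have hφ : Function.Injective φ := fun p q h => Subtype.ext (Subtype.ext (by
        have h' := congrArg Subtype.val (congrArg Subtype.val h)
        change ((f' p : A) : G) = (f' q : G) at h'
        rw [hf', hf'] at h'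
        simpa using h'))
      have h1 := hc.aut_fix (MulEquiv.ofBijective φ (Finite.injective_iff_bijective.1 hφ)) hzsyl
      have h2 := congrArg Subtype.val (congrArg Subtype.val h1)
      change ((f' ⟨zA, hzsyl⟩ : A) : G) = z at h2
      rwa [hf'] at h2
    · obtain ⟨p, hp, i, hpi⟩ := hmemS _ (hconj r hrS)
      have hcS : ∀ s ∈ S, s * (g * r * g⁻¹) = g * r * g⁻¹ * s := by
        intro s hs
        obtain ⟨t, ht, rfl⟩ : ∃ t ∈ S, g * t * g⁻¹ = s := ⟨g⁻¹ * s * g,
          (Subgroup.mem_normalizer_iff''.1 hg s).1 hs, by group⟩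
        calc g * t * g⁻¹ * (g * r * g⁻¹) = g * (t * r) * g⁻¹ := by group
          _ = g * (r * t) * g⁻¹ := by rw [hrcS t ht]
          _ = _ := by group
      have hpc : ∀ y ∈ sylP σ, y * p = p * y := by
        intro y hy
        refine Subtype.ext (mul_right_cancel (b := r ^ i) ?_)
        have h := hcS _ (hpS y hy)
        rw [hpi, ← mul_assoc, mul_assoc (p : G), ← (Commute.pow_right (hrc y) i).eq, ← mul_assoc] at h
        exact h
      have hp2 : (p : G) * p = 1 := congrArg Subtype.val (hc.center_sq hp hpc)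
      have hgz : g * z * g⁻¹ = (r ^ i) ^ M := by
        rw [← hrM, ← conj_pow, hpi, (Commute.pow_right (hrc p) i).mul_pow]
        obtain ⟨j, hj⟩ : 2 ∣ M := dvd_pow_self 2 (by omega)
        rw [show (p : G) ^ M = 1 by rw [hj, pow_mul, pow_two, hp2, one_pow], one_mul]
      rcases hrMi i with h | h
      · exact absurd (conj_eq_one_iff.1 (hgz.trans h)) hzne
      · exact hgz.trans h
  -- it is a Sylow subgroup of the group
  have hodd : ¬ 2 ∣ S.index := by
    have hPodd : ¬ 2 ∣ P.index := by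
      rw [hP, Subgroup.index_prod]
      exact fun h => (Nat.prime_two.dvd_mul.1 h).elim hc.not_dvd_index_syl R.not_dvd_index
    have hrel : ¬ 2 ∣ S.relIndex N := by
      intro h
      refine hPodd (h.trans ?_)
      rw [← hfN, hSdef, MonoidHom.range_eq_map, Subgroup.relIndex_map_map, top_sup_eq,
        Subgroup.relIndex_top_right]
      exact Subgroup.index_dvd_of_le le_sup_left
    intro h2
    obtain ⟨n, hn⟩ := hS2.exists_card_eq
    have hdvd : 2 ^ (n + 1) ∣ Nat.card G := by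
      rw [← Subgroup.card_mul_index S, hn, pow_succ]
      exact Nat.mul_dvd_mul_left _ h2
    have h3 := Sylow.prime_dvd_card_quotient_normalizer hdvd hn
    refine hrel (h3.trans ?_)
    have hMN : Subgroup.normalizer (S : Set G) ≤ N := fun g hg =>
      hzN g (mul_inv_eq_iff_eq_mul.1 (hF g hg))
    exact ⟨_, (Subgroup.relIndex_mul_relIndex S _ N Subgroup.le_normalizer hMN).symm⟩
  let T : Sylow 2 G := hS2.toSylow hodd
  have hT : (T : Subgroup G) = S := rfl
  -- elements over `cC` are not conjugate to `z`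
  have hnc : ∀ y : A, σ y = cC → ∀ g : G, g⁻¹ * z * g ≠ y := by
    intro y hy g hg
    have hcent : ∀ x : A, (∀ p ∈ sylP σ, p * x = x * p) → (x : G) ∈ Subgroup.centralizer (T : Set G) := by
      intro x hx s hs
      obtain ⟨p, hp, i, rfl⟩ := hmemS s (hT ▸ hs)
      rw [mul_assoc, ← (Commute.pow_right (hrc x) i).eq, ← mul_assoc,
        show (p : G) * x = x * p from congrArg Subtype.val (hx p hp), mul_assoc]
    obtain ⟨n, hn, hne'⟩ := T.conj_eq_normalizer_conj_of_mem_centralizer z g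
      (hcent zA fun p _ => hzA p) (hg ▸ hcent y fun p hp => hc.cC_comm_syl hy hp)
    have h := hF n⁻¹ (inv_mem (hT ▸ hn))
    rw [inv_inv] at h
    rw [hg, h] at hne'
    rw [Subtype.ext hne', hc.z_mem] at hy
    exact cC_ne hy.symm
  -- conjugates commuting with `z` lie in `A`
  have hmemA : ∀ g : G, Commute z (g * z * g⁻¹) → g⁻¹ * z * g ∈ A := by
    intro g hg
    have hconjS : ∀ x ∈ N, IsPGroup 2 (Subgroup.zpowers x) → ∃ n ∈ N, n * x * n⁻¹ ∈ S := by
      intro x hx hp
      obtain ⟨Q, hQ⟩ := (hp.comap_subtype : IsPGroup 2 ((Subgroup.zpowers x).comap N.subtype)).exists_le_sylow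
      obtain ⟨n, hn⟩ := MulAction.exists_smul_eq N Q (T.subtype (hT ▸ hSN))
      refine ⟨n, n.2, ?_⟩
      have hm : MulAut.conj n • (⟨x, hx⟩ : N) ∈ MulAut.conj n • (Q : Subgroup N) :=
        Subgroup.smul_mem_pointwise_smul _ _ _ (hQ (Subgroup.mem_zpowers x))
      have e : MulAut.conj n • (Q : Subgroup N) = ((n • Q : Sylow 2 N) : Subgroup N) := rfl
      rw [e, hn] at hm
      exact hT ▸ hm
    have hpg : IsPGroup 2 (Subgroup.zpowers (g * z * g⁻¹)) := IsPGroup.of_card (n := 1) (by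
      rw [Nat.card_zpowers, show g * z * g⁻¹ = MulAut.conj g z from rfl,
        MulEquiv.orderOf_eq (MulAut.conj g), hzord, pow_one])
    obtain ⟨n, hn, hns⟩ := hconjS _ (hzN _ hg.eq.symm) hpg
    set h := n * g with hh
    have hx : h * z * h⁻¹ ∈ S := by rw [hh]; convert hns using 1; group
    have hz' : h⁻¹ * z * h = g⁻¹ * z * g := by
      rw [hh, mul_inv_rev, ← mul_assoc, mul_assoc g⁻¹ n⁻¹, mul_assoc g⁻¹,
        show n⁻¹ * z * n = z by rw [mul_assoc, ← hNz n hn, inv_mul_cancel_left]]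
    rw [← hz']
    set r' := h⁻¹ * r * h with hr'
    have hr'N : r' ∈ N := hzN _ (by
      have := hrcS _ hx
      rw [hr']
      calc h⁻¹ * r * h * z = h⁻¹ * (r * (h * z * h⁻¹)) * h := by group
        _ = h⁻¹ * (h * z * h⁻¹ * r) * h := by rw [this]
        _ = z * (h⁻¹ * r * h) := by group)
    obtain ⟨m, hm, hms⟩ := hconjS r' hr'N (IsPGroup.of_card (n := k + 1) (by
      rw [Nat.card_zpowers, hr', show h⁻¹ * r * h = MulAut.conj h⁻¹ r by simp,
        MulEquiv.orderOf_eq (MulAut.conj h⁻¹), hord]))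
    obtain ⟨p, -, i, hpi⟩ := hmemS _ hms
    have hpow : m * (h⁻¹ * z * h) * m⁻¹ = (p : G) ^ M * (r ^ i) ^ M := by
      have hpow' : r' ^ M = h⁻¹ * z * h := by
        rw [hr', ← hrM]
        have := (map_pow (MulAut.conj h⁻¹) r M).symm
        simpa only [MulAut.conj_apply, inv_inv] using this
      rw [← hpow', ← conj_pow, hpi, (Commute.pow_right (hrc p) i).mul_pow]
    refine (Subgroup.mem_normalizer_iff.1 hm _).2 ?_
    rw [hpow]
    rcases hrMi i with e | e <;> rw [e]
    · exact mul_mem (pow_mem p.2 _) (one_mem A)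
    · exact mul_mem (pow_mem p.2 _) zA.2
  -- `z` is isolated
  have hiso : IsIsolatedInvolution z := by
    refine ⟨hzord, fun g hg => ?_⟩
    by_contra hne
    have hg' : Commute z (g⁻¹ * z * g⁻¹⁻¹) := by
      rw [inv_inv]
      show z * (g⁻¹ * z * g) = g⁻¹ * z * g * z
      calc z * (g⁻¹ * z * g) = g⁻¹ * (g * z * g⁻¹ * z) * g := by group
        _ = g⁻¹ * (z * (g * z * g⁻¹)) * g := by rw [hg.eq]
        _ = g⁻¹ * z * g * z := by group
    have hA' := hmemA g⁻¹ hg'
    rw [inv_inv] at hA'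
    let y : A := ⟨g * z * g⁻¹, hA'⟩
    have hy2 : y * y = 1 := Subtype.ext (by
      show g * z * g⁻¹ * (g * z * g⁻¹) = 1
      rw [show g * z * g⁻¹ * (g * z * g⁻¹) = g * (z * z) * g⁻¹ by group, hz2]
      group)
    have hyk : σ y ≠ 1 := by
      intro h
      rcases hc.ker_cases h with h1 | h1
      · exact hzne (conj_eq_one_iff.1 (congrArg Subtype.val h1))
      · exact hne (congrArg Subtype.val h1)
    obtain ⟨t, ht⟩ := hc.exists_conj_of_involution hy2 hyk
    obtain ⟨b, rfl⟩ := hc.stem.1 t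
    refine hnc (b * y * b⁻¹) (by rw [map_mul, map_mul, map_inv, ht]) ((b : G) * g)⁻¹ ?_
    rw [inv_inv]
    show _ = (b : G) * (g * z * g⁻¹) * (b : G)⁻¹
    group
  have hcen := ZStar.isolated_mem_center ZStar.uniqueInvolution hiso hO
  rw [← Subgroup.normalizer_eq_top_iff, eq_top_iff]
  exact fun g _ => hzN g (Subgroup.mem_center_iff.1 hcen g)

end Cfsg.Agent.RuStandard
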