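import Cfsg.Agent.Lib.MultiplierRu.Bound
import Cfsg.Agent.Lib.RuStandard.Checks

/-!
# Involutions and roots in a Sylow 2-subgroup of `rud`

* `q e`, `sylBar` : the elements and the Sylow subgroup; `q_bij`, `exists_q`, `not_dvd_index`
* `sq_cases` : the elements with square `1` or `cC`; `center_cases`
* `conj_A`, `conj_B` : the two classes of involutions
-/

set_option autoImplicit false
set_option maxRecDepth 20000

namespace Cfsg.Agent.RuStandard

open Cfsg.Agent.StabCert Cfsg.Agent.RuPerm Cfsg.Agent.Multiplier Cfsg.Agent.MultiplierRu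

/-- The element with a given code. -/
noncomputable def q (e : ℕ) : rud := TailCert.pw pcG (lts e)

/-- The central involution of the Sylow subgroup. -/
noncomputable def cC : rud := q 8192

/-- The involution of the pair. -/
noncomputable def xX : rud := q 26

/-- The Sylow subgroup. -/
noncomputable def sylBar : Subgroup rud := Subgroup.closure (Set.range fun i : Fin 14 => pcG i)

theorem lts_lt (e : ℕ) : ∀ i ∈ lts e, i < 14 := fun _ hi => List.mem_range.1 (List.mem_filter.1 hi).1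

theorem tab_spec {i : ℕ} (hi : i < 14) {x : ℕ} (hx : x < 4060) :
    look 12 (tab.getD i 0) x = ev 12 perm (pcWords.getD i []) x := by
  have h : tabOK i = true := by
    have h0 := tab_ok0
    have h1 := tab_ok1
    have h2 := tab_ok2
    simp only [List.all_eq_true, List.mem_range, List.mem_range'_1] at h0 h1 h2
    rcases Nat.lt_or_ge i 5 with h | h
    · exact h0 i h
    rcases Nat.lt_or_ge i 10 with h' | h'
    · exact h1 i ⟨h, by omega⟩
    · exact h2 i ⟨h', by omega⟩
  simp only [tabOK, List.all_eq_true, List.mem_range] at h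
  exact Nat.eq_of_beq_eq_true (h x hx)

theorem ev_pcW : ∀ {l : List ℕ}, (∀ i ∈ l, i < 14) → ∀ {β : ℕ}, β < 4060 →
    ev 12 perm (pcW l) β = ev 12 tab l β
  | [], _, β, _ => rfl
  | i :: l, hl, β, hβ => by
    have hl' : ∀ j ∈ l, j < 14 := fun j hj => hl j (List.mem_cons_of_mem _ hj)
    have hlt : ev 12 perm (pcW l) β < 4060 := (ev_spec sound _ (pcW_lt l) β hβ).1
    rw [ev_pcW hl' hβ] at hlt
    rw [show pcW (i :: l) = pcWords.getD i [] ++ pcW l from rfl, ev_append, ev_pcW hl' hβ]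
    exact (tab_spec (hl i List.mem_cons_self) hlt).symm

theorem pw_eq {u v : List ℕ} (hu : ∀ i ∈ u, i < 14) (hv : ∀ i ∈ v, i < 14) (h : eqP u v = true) :
    TailCert.pw pcG u = TailCert.pw pcG v := by
  rw [pw_pcG, pw_pcG]
  refine el_eq (pcW_lt _) (pcW_lt _) ?_
  simp only [eqP, List.all_eq_true] at h
  simp only [eqR, List.all_eq_true]
  intro β hβ
  rw [ev_pcW hu (detPts_lt β hβ), ev_pcW hv (detPts_lt β hβ)]
  exact h β hβ

theorem eqP_of_eq {u v : List ℕ} (hu : ∀ i ∈ u, i < 14) (hv : ∀ i ∈ v, i < 14)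
    (h : TailCert.pw pcG u = TailCert.pw pcG v) : eqP u v = true := by
  rw [pw_pcG, pw_pcG] at h
  have h' := eqR_of_el (pcW_lt _) (pcW_lt _) h
  simp only [eqR, List.all_eq_true] at h'
  simp only [eqP, List.all_eq_true]
  intro β hβ
  rw [← ev_pcW hu (detPts_lt β hβ), ← ev_pcW hv (detPts_lt β hβ)]
  exact h' β hβ

theorem lts_single {i : ℕ} (hi : i < 14) : ∀ j ∈ [i], j < 14 := fun j hj => by
  rw [List.mem_singleton] at hj
  omega

theorem app_lt {u v : List ℕ} (hu : ∀ i ∈ u, i < 14) (hv : ∀ i ∈ v, i < 14) :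
    ∀ i ∈ u ++ v, i < 14 := fun i hi => (List.mem_append.1 hi).elim (hu i) (hv i)

theorem nil_lt : ∀ i ∈ ([] : List ℕ), i < 14 := fun _ h => absurd h List.not_mem_nil

theorem letters_spec : lts 26 = [1, 3, 4] ∧ lts 8192 = [13] ∧ lts 64 = [6] := by
  have h := letters_ok
  simp only [Bool.and_eq_true, beq_iff_eq] at h
  exact ⟨h.1.1, h.1.2, h.2⟩

theorem q_zero : q 0 = 1 := by
  rw [q, show lts 0 = [] from TailCert.letters_zero 14]; rfl

theorem cC_eq : cC = pcG 13 := by
  rw [cC, q, letters_spec.2.1]; simp [TailCert.pw]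

theorem xX_eq : xX = pairx := by rw [xX, q, letters_spec.1]; rfl

theorem pcG_mem {i : ℕ} (hi : i < 14) : pcG i ∈ sylBar := Subgroup.subset_closure ⟨⟨i, hi⟩, rfl⟩

theorem pw_mem {l : List ℕ} (hl : ∀ i ∈ l, i < 14) : TailCert.pw pcG l ∈ sylBar :=
  Subgroup.list_prod_mem _ fun y hy => by
    obtain ⟨i, hi, rfl⟩ := List.mem_map.1 hy
    exact pcG_mem (hl i hi)

theorem q_mem (e : ℕ) : q e ∈ sylBar := pw_mem (lts_lt e)

theorem not_dvd_index : ¬ 2 ∣ sylBar.index := sylow_two_index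

theorem sub_ok : ((subl (List.range 14)).all fun l =>
    lts (setOf l) == l && Nat.blt (setOf l) 16384) = true := by decide +kernel

theorem sylBar_eq : sylBar = Subgroup.closure (pcG '' {i | 0 ≤ i ∧ i < 14}) := by
  rw [sylBar]
  congr 1
  ext x
  exact ⟨fun ⟨i, e⟩ => ⟨i, ⟨Nat.zero_le _, i.2⟩, e⟩, fun ⟨i, hi, e⟩ => ⟨⟨i, hi.2⟩, e⟩⟩

theorem natCard_sylBar : Nat.card sylBar = 16384 := by
  rw [sylBar_eq]
  exact TailCert.card_of_rel pcG_rel rhs_lt pcG_inj 14 0 rfl

theorem exists_q {g : rud} (hg : g ∈ sylBar) : ∃ e < 16384, q e = g := by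
  rw [sylBar_eq] at hg
  obtain ⟨l, hl, rfl⟩ := TailCert.normal_form_of_rel pcG_rel rhs_lt 14 0 rfl g hg
  rw [← List.range_eq_range'] at hl
  have h := List.all_eq_true.1 sub_ok l (mem_subl hl)
  simp only [Bool.and_eq_true, beq_iff_eq, Nat.blt_eq] at h
  exact ⟨setOf l, h.2, by rw [q, h.1]⟩

/-- The codes as a bijection onto the Sylow subgroup. -/
theorem q_bij : Function.Bijective fun e : Fin 16384 => (⟨q e, q_mem e⟩ : sylBar) := by
  refine Function.Surjective.bijective_of_nat_card_le ?_ ?_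
  · rintro ⟨g, hg⟩
    obtain ⟨e, he, rfl⟩ := exists_q hg
    exact ⟨⟨e, he⟩, rfl⟩
  · rw [natCard_sylBar, Nat.card_fin]

theorem q_inj {e f : ℕ} (he : e < 16384) (hf : f < 16384) (h : q e = q f) : e = f := by
  have := q_bij.1 (a₁ := ⟨e, he⟩) (a₂ := ⟨f, hf⟩) (Subtype.ext h)
  exact congrArg Fin.val this

theorem testBit_setOf : ∀ (l : List ℕ) (e : ℕ), (setOf l).testBit e = true ↔ e ∈ l
  | [], e => by simp [setOf]
  | a :: l, e => by
    rw [setOf, Nat.testBit_or, Bool.or_eq_true, testBit_setOf l, Nat.one_shiftLeft, Nat.testBit_two_pow,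
      decide_eq_true_iff, List.mem_cons]
    exact or_congr_left ⟨Eq.symm, Eq.symm⟩

theorem mask_spec : (∀ e, maskA.testBit e = true ↔ e ∈ lstA) ∧
    (∀ e, maskInv.testBit e = true ↔ e ∈ lstA ∨ e ∈ lstB) ∧
    (∀ e, maskRoot.testBit e = true ↔ e ∈ lst4 ∨ e ∈ lst20 ∨ e ∈ lst8) := by
  have h := masks_ok
  simp only [Bool.and_eq_true] at h
  rw [Nat.eq_of_beq_eq_true h.1.1, Nat.eq_of_beq_eq_true h.1.2, Nat.eq_of_beq_eq_true h.2]
  refine ⟨testBit_setOf _, fun e => ?_, fun e => ?_⟩ <;>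
    simp only [testBit_setOf, List.mem_append]

/-- Elements of the Sylow subgroup whose square is `1` or `cC`. -/
theorem sq_cases {e : ℕ} (he : e < 16384) (h : q e * q e = 1 ∨ q e * q e = cC) :
    e = 0 ∨ e ∈ lstA ∨ e ∈ lstB ∨ e ∈ lst4 ∨ e ∈ lst20 ∨ e ∈ lst8 := by
  have key : ∀ lo, sqOK lo = true → lo ≤ e → e < lo + 2048 →
      e = 0 ∨ e ∈ lstA ∨ e ∈ lstB ∨ e ∈ lst4 ∨ e ∈ lst20 ∨ e ∈ lst8 := by
    intro lo hlo h1 h2
    simp only [sqOK, List.all_eq_true, List.mem_range] at hlo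
    have h3 := hlo (e - lo) (by omega)
    rw [show lo + (e - lo) = e by omega] at h3
    simp only [Bool.or_eq_true, Bool.and_eq_true, Bool.not_eq_true'] at h3
    rcases h3 with ((h3 | h3) | h3) | ⟨h3, h4⟩
    · exact Or.inl (Nat.eq_of_beq_eq_true h3)
    · rcases (mask_spec.2.1 e).1 h3 with h3 | h3 <;> tauto
    · rcases (mask_spec.2.2 e).1 h3 with h3 | h3 | h3 <;> tauto
    · exfalso
      rcases h with h | h
      · rw [eqP_of_eq (app_lt (lts_lt e) (lts_lt e)) nil_lt
          (by rw [TailCert.pw_append]; exact h)] at h3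
        simp at h3
      · rw [eqP_of_eq (app_lt (lts_lt e) (lts_lt e)) (lts_single (by norm_num : 13 < 14))
          (by rw [TailCert.pw_append, ← letters_spec.2.1]; exact h)] at h4
        simp at h4
  rcases (by omega : e < 2048 ∨ (2048 ≤ e ∧ e < 4096) ∨ (4096 ≤ e ∧ e < 6144) ∨ (6144 ≤ e ∧ e < 8192) ∨
      (8192 ≤ e ∧ e < 10240) ∨ (10240 ≤ e ∧ e < 12288) ∨ (12288 ≤ e ∧ e < 14336) ∨ 14336 ≤ e) with
    h' | h' | h' | h' | h' | h' | h' | h'
  · exact key 0 sq_ok0 (Nat.zero_le _) (by omega)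
  · exact key 2048 sq_ok1 h'.1 (by omega)
  · exact key 4096 sq_ok2 h'.1 (by omega)
  · exact key 6144 sq_ok3 h'.1 (by omega)
  · exact key 8192 sq_ok4 h'.1 (by omega)
  · exact key 10240 sq_ok5 h'.1 (by omega)
  · exact key 12288 sq_ok6 h'.1 (by omega)
  · exact key 14336 sq_ok7 h' (by omega)

/-- The centre of the Sylow subgroup has two elements. -/
theorem center_cases {g : rud} (hg : g ∈ sylBar) (h : ∀ i < 14, g * pcG i = pcG i * g) :
    g = 1 ∨ g = cC := by
  obtain ⟨e, he, rfl⟩ := exists_q hg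
  have hc := cen_ok
  simp only [cenOK, List.all_eq_true, List.mem_range, Bool.or_eq_true, List.any_eq_true,
    Bool.not_eq_true'] at hc
  rcases hc e he with (h0 | h0) | ⟨i, hi, hne⟩
  · rw [Nat.eq_of_beq_eq_true h0]; exact Or.inl q_zero
  · rw [Nat.eq_of_beq_eq_true h0]; exact Or.inr rfl
  · exfalso
    rw [show i :: lts e = [i] ++ lts e from rfl,
      eqP_of_eq (app_lt (lts_lt e) (lts_single hi)) (app_lt (lts_single hi) (lts_lt e)) ?_] at hne
    · simp at hne
    · rw [TailCert.pw_append]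
      show q e * TailCert.pw pcG [i] = TailCert.pw pcG ([i] ++ lts e)
      rw [TailCert.pw_append, show TailCert.pw pcG [i] = pcG i by simp [TailCert.pw]]
      exact h i hi

/-- One edge of a tree. -/
theorem edge_spec {e p i : ℕ} (h : edgeOK e p i = true) :
    (i < 14 ∧ pcG i * q p = q e * pcG i) ∨
      (i - 16 ∈ lstA ∧ q p * q (i - 16) = q (i - 16) * q p ∧ q e = q p * q (i - 16)) := by
  rw [edgeOK] at h
  split at h
  · next hi =>
    refine Or.inl ⟨hi, ?_⟩
    have h' := pw_eq (app_lt (lts_single hi) (lts_lt p)) (app_lt (lts_lt e) (lts_single hi)) h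
    rw [TailCert.pw_append, TailCert.pw_append] at h'
    simpa [TailCert.pw, q] using h'
  · simp only [Bool.and_eq_true] at h
    refine Or.inr ⟨(mask_spec.1 _).1 h.1.1, ?_, ?_⟩
    · simpa only [q, TailCert.pw_append] using
        pw_eq (app_lt (lts_lt p) (lts_lt _)) (app_lt (lts_lt _) (lts_lt p)) h.1.2
    · simpa only [q, TailCert.pw_append] using
        (pw_eq (app_lt (lts_lt p) (lts_lt _)) (lts_lt e) h.2).symm

/-- A property of the seeds passed along a tree. -/
theorem tree_ind {P : ℕ → Prop}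
    (hP : ∀ e p i, edgeOK e p i = true → P p → P e) :
    ∀ (l : List (ℕ × ℕ × ℕ)) (seen : ℕ), treeOK seen l = true →
      (∀ e, seen.testBit e = true → P e) → ∀ e ∈ l.map Prod.fst, P e
  | [], _, _, _, e, he => absurd he (by simp)
  | (a, p, i) :: l, seen, h, hs, e, he => by
    simp only [treeOK, Bool.and_eq_true] at h
    have ha : P a := hP a p i h.1.2 (hs p h.1.1)
    rw [List.map_cons, List.mem_cons] at he
    rcases he with rfl | he
    · exact ha
    · refine tree_ind hP l _ h.2 (fun f hf => ?_) e he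
      rw [Nat.testBit_or, Bool.or_eq_true, Nat.one_shiftLeft, Nat.testBit_two_pow, decide_eq_true_iff] at hf
      rcases hf with hf | hf
      · exact hs f hf
      · exact hf ▸ ha

theorem rep_spec {t : ℕ} {l : List (ℕ × List ℕ)} (h : l.all (repOK t) = true) {e : ℕ}
    (he : e ∈ l.map Prod.fst) : ∃ g : rud, g * q e * g⁻¹ = q t := by
  obtain ⟨⟨r, w⟩, hr, rfl⟩ := List.mem_map.1 he
  have h' := List.all_eq_true.1 h _ hr
  simp only [repOK, Bool.and_eq_true, List.all_eq_true, Nat.blt_eq] at h'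
  have he' := el_eq (fun k hk => (List.mem_append.1 hk).elim (h'.1 k) (pcW_lt _ k))
    (fun k hk => (List.mem_append.1 hk).elim (pcW_lt _ k) (h'.1 k)) h'.2
  rw [el_append, el_append, ← pw_pcG, ← pw_pcG] at he'
  exact ⟨el w, mul_inv_eq_iff_eq_mul.2 he'⟩

theorem conj_of_tree {t : ℕ} {rep : List (ℕ × List ℕ)} {tree : List (ℕ × ℕ × ℕ)}
    (hno : ∀ x ∈ tree, x.2.2 < 14) (hrep : rep.all (repOK t) = true)
    (htree : treeOK (setOf (rep.map Prod.fst)) tree = true) :
    ∀ e ∈ rep.map Prod.fst ++ tree.map Prod.fst, ∃ g : rud, g * q e * g⁻¹ = q t := by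
  intro e he
  rcases List.mem_append.1 he with he | he
  · exact rep_spec hrep he
  obtain ⟨P, hP⟩ : ∃ P : ℕ → Prop, P = fun e => ∃ g : rud, g * q e * g⁻¹ = q t := ⟨_, rfl⟩
  suffices h : P e by rw [hP] at h; exact h
  have main : ∀ (l : List (ℕ × ℕ × ℕ)) (seen : ℕ), (∀ x ∈ l, x.2.2 < 14) → treeOK seen l = true →
      (∀ e, seen.testBit e = true → P e) → ∀ e ∈ l.map Prod.fst, P e := by
    intro l
    induction l with
    | nil => intro _ _ _ _ e he; simp at he
    | cons a l ih =>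
      obtain ⟨a, p, i⟩ := a
      intro seen hlt h hs e he
      simp only [treeOK, Bool.and_eq_true] at h
      have ha : P a := by
        have hi : i < 14 := hlt (a, p, i) List.mem_cons_self
        have h' := h.1.2
        rw [edgeOK, if_pos hi] at h'
        have h1 : pcG i * q p = q a * pcG i := by
          have h2 := pw_eq (app_lt (lts_single hi) (lts_lt p)) (app_lt (lts_lt a) (lts_single hi)) h'
          rw [TailCert.pw_append, TailCert.pw_append] at h2
          simpa [TailCert.pw, q] using h2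
        have h2 := hs p h.1.1
        rw [hP] at h2 ⊢
        obtain ⟨g, hg⟩ := h2
        refine ⟨g * (pcG i)⁻¹, ?_⟩
        rw [← hg, mul_inv_rev, inv_inv,
          show g * (pcG i)⁻¹ * q a * (pcG i * g⁻¹) = g * ((pcG i)⁻¹ * (q a * pcG i)) * g⁻¹ by group,
          ← h1, inv_mul_cancel_left]
      rw [List.map_cons, List.mem_cons] at he
      rcases he with rfl | he
      · exact ha
      · refine ih _ (fun x hx => hlt x (List.mem_cons_of_mem _ hx)) h.2 (fun f hf => ?_) e he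
        rw [Nat.testBit_or, Bool.or_eq_true, Nat.one_shiftLeft, Nat.testBit_two_pow,
          decide_eq_true_iff] at hf
        rcases hf with hf | hf
        · exact hs f hf
        · exact hf ▸ ha
  exact main tree _ hno htree (fun f hf => hP ▸ rep_spec hrep ((testBit_setOf _ f).1 hf)) e he

theorem tree_letters_ok : ((treeA ++ treeB).all fun x => Nat.blt x.2.2 14) = true := by decide +kernel

theorem conj_A : ∀ e ∈ lstA, ∃ g : rud, g * q e * g⁻¹ = cC :=
  conj_of_tree (fun x hx => by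
    have h := List.all_eq_true.1 tree_letters_ok x (List.mem_append_left _ hx)
    simpa using h) repA_ok treeA_ok

theorem conj_B : ∀ e ∈ lstB, ∃ g : rud, g * q e * g⁻¹ = xX :=
  conj_of_tree (fun x hx => by
    have h := List.all_eq_true.1 tree_letters_ok x (List.mem_append_right _ hx)
    simpa using h) repB_ok treeB_ok

theorem xX_sq : xX * xX = 1 := by rw [xX_eq]; exact pair_facts.1

theorem cC_sq : cC * cC = 1 := by
  have h := seed_ok
  simp only [seedOK, Bool.and_eq_true] at h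
  have h' := pw_eq (app_lt (lts_single (by norm_num : 13 < 14)) (lts_single (by norm_num : 13 < 14))) nil_lt h.2
  rw [TailCert.pw_append, ← letters_spec.2.1] at h'
  exact h'

/-- The generators of the Sylow subgroup are products of squares and of elements commuting with roots. -/
theorem sylGen {i : ℕ} (hi : i < 14) : ∃ l : List rud, l.prod = pcG i ∧
    ∀ x ∈ l, (∃ w ∈ sylBar, w * w = x) ∨
      ∃ e, (e ∈ lst4 ∨ e ∈ lst20 ∨ e ∈ lst8) ∧ x * q e = q e * x := by
  have h := syl_ok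
  simp only [sylOK, Bool.and_eq_true, List.all_eq_true, List.mem_range, Nat.blt_eq] at h
  obtain ⟨⟨hsq, hce⟩, hgen⟩ := h
  obtain ⟨hlt, heq⟩ := hgen i hi
  have hfl : ∀ j ∈ (sylWords.getD i []).flatMap (fun j => lts (sylElts.getD j 0)), j < 14 := fun j hj => by
    obtain ⟨k, -, hk⟩ := List.mem_flatMap.1 hj
    exact lts_lt _ j hk
  refine ⟨(sylWords.getD i []).map fun j => q (sylElts.getD j 0), ?_, fun x hx => ?_⟩
  · have h1 := pw_eq (lts_single hi) hfl heq
    rw [show TailCert.pw pcG [i] = pcG i by simp [TailCert.pw]] at h1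
    rw [h1]
    generalize sylWords.getD i [] = l
    induction l with
    | nil => rfl
    | cons a l ih => rw [List.flatMap_cons, TailCert.pw_append, List.map_cons, List.prod_cons, ih]; rfl
  obtain ⟨j, hj, rfl⟩ := List.mem_map.1 hx
  have hm : sylElts.getD j 0 ∈ sylElts := by
    rw [List.getD_eq_getElem _ _ (hlt j hj)]; exact List.getElem_mem _
  rw [sylElts, List.mem_append, List.mem_map, List.mem_map] at hm
  rcases hm with ⟨⟨a, w⟩, haw, e⟩ | ⟨⟨a, w⟩, haw, e⟩
  · refine Or.inl ⟨q w, q_mem w, ?_⟩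
    rw [show sylElts.getD j 0 = a from e.symm, q, q, ← TailCert.pw_append]
    exact pw_eq (app_lt (lts_lt w) (lts_lt w)) (lts_lt a) (hsq _ haw)
  · obtain ⟨h1, h2⟩ := hce _ haw
    refine Or.inr ⟨w, (mask_spec.2.2 w).1 h2, ?_⟩
    rw [show sylElts.getD j 0 = a from e.symm, q, q, ← TailCert.pw_append, ← TailCert.pw_append]
    exact pw_eq (app_lt (lts_lt a) (lts_lt w)) (app_lt (lts_lt w) (lts_lt a)) h1

theorem el_dbl : ∀ ws : List (List ℕ), el (dbl ws) = ((ws.map el).map fun h => h * h).prod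
  | [] => rfl
  | a :: l => by
    rw [show dbl (a :: l) = a ++ a ++ dbl l from rfl, el_append, el_append, el_dbl l, List.map_cons,
      List.map_cons, List.prod_cons]

theorem dbl_lt {ws : List (List ℕ)} (h : ∀ l ∈ ws, ∀ k ∈ l, k < 9) : ∀ k ∈ dbl ws, k < 9 :=
  fun k hk => by
  obtain ⟨l, hl, hk⟩ := List.mem_flatMap.1 hk
  exact (List.mem_append.1 hk).elim (h l hl k) (h l hl k)

theorem cent_spec {ws : List (List ℕ)} {t : ℕ} (h : centOK ws t = true) :
    (∀ l ∈ ws, ∀ k ∈ l, k < 9) ∧ ∀ x ∈ ws.map el, x * q t = q t * x := by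
  simp only [centOK, List.all_eq_true, Bool.and_eq_true, Nat.blt_eq] at h
  refine ⟨fun l hl => (h l hl).1, fun x hx => ?_⟩
  obtain ⟨l, hl, rfl⟩ := List.mem_map.1 hx
  have he := el_eq (fun k hk => (List.mem_append.1 hk).elim ((h l hl).1 k) (pcW_lt _ k))
    (fun k hk => (List.mem_append.1 hk).elim (pcW_lt _ k) ((h l hl).1 k)) (h l hl).2
  rwa [el_append, el_append, ← pw_pcG] at he

/-- The link between two blocks of roots. -/
theorem link_spec : 1312 ∈ lstB ∧ q 1392 = q 80 * q 1312 ∧ q 80 * q 1312 = q 1312 * q 80 ∧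
    ∃ ws : List rud, (∀ x ∈ ws, x * q 1312 = q 1312 * x) ∧
      q 80 = q 1312 * (ws.map fun h => h * h).prod := by
  have h := link_ok
  simp only [linkOK, Bool.and_eq_true, List.contains_iff_mem] at h
  obtain ⟨⟨⟨⟨h1, h2⟩, h3⟩, h4⟩, h5⟩ := h
  obtain ⟨hlt, hc⟩ := cent_spec h1
  refine ⟨h2, ?_, ?_, linkWords.map el, hc, ?_⟩
  · simpa only [q, TailCert.pw_append] using (pw_eq (app_lt (lts_lt 80) (lts_lt 1312)) (lts_lt 1392) h4).symm
  · simpa only [q, TailCert.pw_append] using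
      pw_eq (app_lt (lts_lt 80) (lts_lt 1312)) (app_lt (lts_lt 1312) (lts_lt 80)) h5
  · have h' := el_eq (fun k hk => (List.mem_append.1 hk).elim (pcW_lt _ k) (dbl_lt hlt k)) (pcW_lt _) h3
    rw [el_append, el_dbl, ← pw_pcG, ← pw_pcG] at h'
    exact h'.symm

/-- The four-group. -/
theorem four_spec : 26 ∈ lstB ∧ 15226 ∈ lstB ∧ (∃ e ∈ lstB, xX * q 15226 = q e) ∧
    ∃ ws : List rud, (∀ x ∈ ws, x * xX = xX * x) ∧
      q 15226 = pairy * (ws.map fun h => h * h).prod := by
  have h := four_ok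
  simp only [fourOK, Bool.and_eq_true, List.contains_iff_mem, List.any_eq_true] at h
  obtain ⟨⟨⟨⟨h1, h2⟩, h3⟩, h4⟩, e, he, h5⟩ := h
  obtain ⟨hlt, hc⟩ := cent_spec h1
  refine ⟨h3, h4, ⟨e, he, ?_⟩, fourWords.map el, hc, ?_⟩
  · simpa only [xX, q, TailCert.pw_append] using pw_eq (app_lt (lts_lt 26) (lts_lt 15226)) (lts_lt e) h5
  · have h' := el_eq (fun k hk => (List.mem_append.1 hk).elim (pcW_lt _ k) (dbl_lt hlt k)) (pcW_lt _) h2
    rw [el_append, el_dbl, ← pw_pcG, ← pw_pcG] at h'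
    exact h'.symm

/-- The seeds. -/
theorem seed_spec : q 29 * q 29 = cC ∧ q 80 * q 80 = cC ∧ q 1392 * q 1392 = cC ∧
    q 493 * q 29 * q 29 * q 29 = q 29 * q 493 ∧ q 29 * q 29 * q 29 * q 29 = 1 := by
  have h := seed_ok
  simp only [seedOK, Bool.and_eq_true] at h
  obtain ⟨⟨⟨⟨⟨h1, h2⟩, h3⟩, h4⟩, h5⟩, -⟩ := h
  have hc : TailCert.pw pcG [13] = cC := by rw [← letters_spec.2.1]; rfl
  have h13 := lts_single (by norm_num : 13 < 14)
  have e1 := pw_eq (app_lt (lts_lt 29) (lts_lt 29)) h13 h1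
  have e2 := pw_eq (app_lt (lts_lt 80) (lts_lt 80)) h13 h2
  have e3 := pw_eq (app_lt (lts_lt 1392) (lts_lt 1392)) h13 h3
  have e4 := pw_eq (app_lt (app_lt (app_lt (lts_lt 493) (lts_lt 29)) (lts_lt 29)) (lts_lt 29))
    (app_lt (lts_lt 29) (lts_lt 493)) h4
  have e5 := pw_eq (app_lt (app_lt (app_lt (lts_lt 29) (lts_lt 29)) (lts_lt 29)) (lts_lt 29)) nil_lt h5
  simp only [TailCert.pw_append, hc] at e1 e2 e3 e4 e5
  exact ⟨e1, e2, e3, e4, e5⟩

end Cfsg.Agent.RuStandard
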